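import Cfsg.Agent.Lib.CharTheory.ThreeDegrees
import Cfsg.Agent.Lib.CharTheory.Gallagher

/-!
Groups whose irreducible degrees are bounded by `b`: inheritance, induction step, and the halving
of degrees in suitable normal subgroups.
-/

namespace CfsgLib.DegreeAbelian

open Cfsg CfsgLib.CharTheory

universe u

variable {G : Type u} [Group G]

/-- All irreducible degrees are at most `b`. -/
def DegLE (G : Type u) [Group G] (b : ℕ) : Prop :=
  ∀ χ : G → ℂ, IsIrrCharacter G χ → charDegree χ ≤ b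

/-- There is an abelian subgroup of index at most `(b!)²`. -/
def HasAb (G : Type u) [Group G] (b : ℕ) : Prop :=
  ∃ A : Subgroup G, (∀ x ∈ A, ∀ y ∈ A, x * y = y * x) ∧ A.index ≤ (Nat.factorial b) ^ 2

theorem char_one [Finite G] {F : G → ℂ} (hF : IsCharacter G F) : F 1 = (charDegree F : ℂ) := by
  have := Fintype.ofFinite G
  obtain ⟨d, hd⟩ := char_one_eq_natCast hF
  rw [hd, charDegree, hd, Complex.natCast_re, Nat.floor_natCast]

theorem degree_le_of_constituent [Fintype G] {F φ : G → ℂ} (hF : IsCharacter G F)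
    (hφ : IsIrrCharacter G φ) (hc : classInner F φ ≠ 0) :
    charDegree φ ≤ charDegree F ∧ (charDegree φ = charDegree F → F = φ) := by
  have hs := isCharacter_sub_irr hF hφ hc
  have h := char_one hs
  rw [Pi.sub_apply, char_one hF, char_one (isCharacter_of_irr hφ), sub_eq_iff_eq_add,
    ← Nat.cast_add, Nat.cast_inj] at h
  refine ⟨by omega, fun e => sub_eq_zero.mp (eq_zero_of_degree_zero hs ?_)⟩
  rw [Pi.sub_apply, char_one hF, char_one (isCharacter_of_irr hφ), e, sub_self]

theorem classInner_res_comm [Fintype G] (H : Subgroup G) [Fintype H] (θ : H → ℂ) {χ : G → ℂ}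
    (hχ : IsClassFunction G χ) :
    classInner (indFun H θ) χ ≠ 0 ↔ classInner (fun h : H => χ h) θ ≠ 0 := by
  rw [frobenius_reciprocity H θ hχ, ← classInner_comm, map_ne_zero]

theorem exists_over [Fintype G] (H : Subgroup G) [Fintype H] {θ : H → ℂ} (hθ : IsIrrCharacter H θ) :
    ∃ χ : G → ℂ, IsIrrCharacter G χ ∧ classInner (fun h : H => χ h) θ ≠ 0 := by
  obtain ⟨χ, hχ, hc⟩ := exists_constituent (isCharacter_indFun H (isCharacter_of_irr hθ)) fun e => by
    have := congrFun e 1
    rw [indFun_apply_one, Pi.zero_apply, mul_eq_zero, Nat.cast_eq_zero] at this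
    exact this.elim Subgroup.index_ne_zero_of_finite (irr_ne_zero hθ)
  exact ⟨χ, hχ, (classInner_res_comm H θ (isClassFunction_irr hχ)).1 hc⟩

theorem charDegree_res (H : Subgroup G) (χ : G → ℂ) : charDegree (fun h : H => χ h) = charDegree χ := rfl

theorem degree_le_over [Fintype G] (H : Subgroup G) [Fintype H] {θ : H → ℂ} (hθ : IsIrrCharacter H θ)
    {χ : G → ℂ} (hχ : IsIrrCharacter G χ) (hc : classInner (fun h : H => χ h) θ ≠ 0) :
    charDegree θ ≤ charDegree χ :=
  (degree_le_of_constituent (isCharacter_restrict (isCharacter_of_irr hχ) H) hθ hc).1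

theorem DegLE.subgroup [Finite G] {b : ℕ} (h : DegLE G b) (H : Subgroup G) : DegLE H b := by
  intro θ hθ
  have := Fintype.ofFinite G
  have := Fintype.ofFinite H
  obtain ⟨χ, hχ, hc⟩ := exists_over H hθ
  exact (degree_le_over H hθ hχ hc).trans (h χ hχ)

theorem DegLE.quotient {b : ℕ} (h : DegLE G b) (N : Subgroup G) [N.Normal] : DegLE (G ⧸ N) b := by
  intro θ hθ
  exact h _ (isIrrCharacter_comp_surjective hθ (QuotientGroup.mk' N) (QuotientGroup.mk'_surjective N))

theorem DegLE.commutative [Finite G] {b : ℕ} (h : DegLE G b) (hb : b ≤ 1) :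
    ∀ x y : G, x * y = y * x := by
  refine commutative_iff_degree_one.mpr fun χ => ?_
  have h1 := h _ χ.2
  have h2 := charDegree_spec' χ.2
  rw [h2.1, show charDegree (χ : G → ℂ) = 1 by omega, Nat.cast_one]

/-- The inductive step. -/
theorem hasAb_of_subgroup [Finite G] {b c R : ℕ} (H : Subgroup G) (hH : H.index ≤ R)
    (hA : HasAb H c) (hR : R * (Nat.factorial c) ^ 2 ≤ (Nat.factorial b) ^ 2) : HasAb G b := by
  obtain ⟨A, hAc, hAi⟩ := hA
  refine ⟨A.map H.subtype, ?_, ?_⟩
  · rintro _ ⟨x, hx, rfl⟩ _ ⟨y, hy, rfl⟩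
    exact congrArg Subtype.val (hAc x hx y hy)
  · rw [Subgroup.index_map_subtype]
    calc A.index * H.index ≤ (Nat.factorial c) ^ 2 * R := Nat.mul_le_mul hAi hH
      _ = R * (Nat.factorial c) ^ 2 := mul_comm _ _
      _ ≤ _ := hR

theorem hasAb_of_abelian {b : ℕ} (A : Subgroup G) (hA : ∀ x ∈ A, ∀ y ∈ A, x * y = y * x)
    (hi : A.index ≤ (Nat.factorial b) ^ 2) : HasAb G b := ⟨A, hA, hi⟩

theorem ineq_half {b : ℕ} (hb : 2 ≤ b) :
    b ^ 2 * (Nat.factorial (b / 2)) ^ 2 ≤ (Nat.factorial b) ^ 2 := by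
  rw [← mul_pow, ← Nat.mul_factorial_pred (by omega : b ≠ 0)]
  exact Nat.pow_le_pow_left (Nat.mul_le_mul_left _ (Nat.factorial_le (by omega))) 2

theorem ineq_sub_two {b : ℕ} (hb : 4 ≤ b) :
    2 * b ^ 2 * (Nat.factorial (b - 2)) ^ 2 ≤ (Nat.factorial b) ^ 2 := by
  rw [← Nat.mul_factorial_pred (by omega : b ≠ 0), ← Nat.mul_factorial_pred (by omega : b - 1 ≠ 0),
    show b - 1 - 1 = b - 2 by omega, mul_pow, mul_pow]
  have h2 : 2 ≤ (b - 1) ^ 2 := by nlinarith [show 3 ≤ b - 1 by omega]
  calc 2 * b ^ 2 * (Nat.factorial (b - 2)) ^ 2 = b ^ 2 * (2 * (Nat.factorial (b - 2)) ^ 2) := by ring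
    _ ≤ _ := Nat.mul_le_mul_left _ (Nat.mul_le_mul_right _ h2)

/-- A constituent of the restriction to a normal subgroup is either the restriction or at most half
of the degree. -/
theorem two_mul_degree_le [Fintype G] (M : Subgroup G) [M.Normal] [Fintype M] {θ : M → ℂ}
    (hθ : IsIrrCharacter M θ) {χ : G → ℂ} (hχ : IsIrrCharacter G χ)
    (hc : classInner (fun n : M => χ n) θ ≠ 0) :
    (fun n : M => χ n) = θ ∨ 2 * charDegree θ ≤ charDegree χ := by
  have hres := isCharacter_restrict (isCharacter_of_irr hχ) M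
  obtain ⟨m, hm⟩ := classInner_char_nat hres (isCharacter_of_irr hθ)
  have hd := clifford_degree M hχ hθ hc
  rw [char_one (isCharacter_of_irr hχ), hm, char_one (isCharacter_of_irr hθ), ← Nat.cast_mul,
    ← Nat.cast_mul, Nat.cast_inj] at hd
  rcases Nat.lt_or_ge (m * (inertia M θ).index) 2 with hlt | hge
  · left
    refine (degree_le_of_constituent hres hθ hc).2 ?_
    rw [charDegree_res, hd]
    have hm0 : m ≠ 0 := fun e => hc (by rw [hm, e, Nat.cast_zero])
    have hi0 : (inertia M θ).index ≠ 0 := Subgroup.index_ne_zero_of_finite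
    have : 0 < m * (inertia M θ).index := Nat.pos_of_ne_zero (mul_ne_zero hm0 hi0)
    rw [show m * (inertia M θ).index = 1 by omega, one_mul]
  · right
    rw [hd]
    exact Nat.mul_le_mul_right _ hge

/-- Degrees in a normal subgroup above which a non-linear character can be multiplied. -/
theorem DegLE.half [Finite G] {b : ℕ} (h : DegLE G b) (M : Subgroup G) [M.Normal]
    (hprod : ∀ χ : G → ℂ, IsIrrCharacter G χ → IsIrrCharacter M (fun n : M => χ n) →
      ∃ ψ : G → ℂ, IsIrrCharacter G ψ ∧ 2 * charDegree χ ≤ charDegree ψ) :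
    DegLE M (b / 2) := by
  intro θ hθ
  have := Fintype.ofFinite G
  have := Fintype.ofFinite M
  obtain ⟨χ, hχ, hc⟩ := exists_over M hθ
  rw [Nat.le_div_iff_mul_le two_pos, mul_comm]
  rcases two_mul_degree_le M hθ hχ hc with e | hle
  · obtain ⟨ψ, hψ, hd⟩ := hprod χ hχ (e ▸ hθ)
    rw [← e, charDegree_res]
    exact hd.trans (h ψ hψ)
  · exact hle.trans (h χ hχ)

theorem charDegree_mul [Finite G] {α β : G → ℂ} (hα : IsCharacter G α) (hβ : IsCharacter G β) :
    charDegree (α * β) = charDegree α * charDegree β := by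
  have h := char_one (isCharacter_mul hα hβ)
  rw [Pi.mul_apply, char_one hα, char_one hβ, ← Nat.cast_mul, Nat.cast_inj] at h
  exact h.symm

end CfsgLib.DegreeAbelian
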