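import Cfsg.Agent.Lib.DegreeAbelian.Basic

/-!
An element with a large centralizer outside a normal subgroup of large index.
-/

namespace CfsgLib.DegreeAbelian

open Cfsg CfsgLib.CharTheory
open scoped ComplexConjugate

universe u

variable {G : Type u} [Group G]

/-- Above a character of a normal subgroup of index more than `b²` there are two characters. -/
theorem two_le_card_over [Fintype G] {b : ℕ} (h : DegLE G b) (K : Subgroup G) [K.Normal] [Fintype K]
    (hK : b ^ 2 < K.index) (θ : IrrCharacter K)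
    (S : Finset (IrrCharacter G))
    (hS : ∀ χ : IrrCharacter G, χ ∈ S ↔ classInner (fun n : K => (χ : G → ℂ) n) (θ : K → ℂ) ≠ 0) :
    2 ≤ S.card := by
  by_contra hlt
  obtain ⟨χ₀, hχ₀, hc⟩ := exists_over K θ.2
  have hmem : (⟨χ₀, hχ₀⟩ : IrrCharacter G) ∈ S := (hS _).2 hc
  have huniq : ∀ χ : IrrCharacter G, classInner (fun n : K => (χ : G → ℂ) n) (θ : K → ℂ) ≠ 0 →
      χ = ⟨χ₀, hχ₀⟩ := fun χ hχ =>
    Finset.card_le_one.mp (by omega) χ ((hS χ).2 hχ) _ hmem
  have hind := isCharacter_indFun K (isCharacter_of_irr θ.2)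
  obtain ⟨m, hm⟩ := classInner_char_nat (isCharacter_restrict (isCharacter_of_irr hχ₀) K)
    (isCharacter_of_irr θ.2)
  have heq := congrFun (eq_sum_irr (isClassFunction_char hind)) 1
  rw [Finset.sum_apply, Finset.sum_eq_single_of_mem (⟨χ₀, hχ₀⟩ : IrrCharacter G) (Finset.mem_univ _)
    fun χ _ hne => by
      have h0 : classInner (indFun K (θ : K → ℂ)) (χ : G → ℂ) = 0 := by
        by_contra hc'
        exact hne (huniq χ ((classInner_res_comm K _ (isClassFunction_irr χ.2)).1 hc'))
      rw [h0, zero_smul, Pi.zero_apply]] at heq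
  simp only at heq
  rw [indFun_apply_one, Pi.smul_apply, smul_eq_mul, char_one (isCharacter_of_irr θ.2),
    char_one (isCharacter_of_irr hχ₀), frobenius_reciprocity K _ (isClassFunction_irr hχ₀),
    ← classInner_comm, hm, Complex.conj_natCast, ← Nat.cast_mul, ← Nat.cast_mul, Nat.cast_inj] at heq
  have hd := clifford_degree K hχ₀ θ.2 hc
  rw [char_one (isCharacter_of_irr hχ₀), hm, char_one (isCharacter_of_irr θ.2), ← Nat.cast_mul,
    ← Nat.cast_mul, Nat.cast_inj] at hd
  have hpos := (charDegree_spec' θ.2).2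
  have hi : 0 < (inertia K (θ : K → ℂ)).index := Nat.pos_of_ne_zero Subgroup.index_ne_zero_of_finite
  have hm1 : m * charDegree (θ : K → ℂ) ≤ charDegree χ₀ := by
    rw [hd, mul_comm m (inertia K (θ : K → ℂ)).index, mul_assoc]
    exact Nat.le_mul_of_pos_left _ hi
  have hb := h χ₀ hχ₀
  have h1 : K.index ≤ K.index * charDegree (θ : K → ℂ) * charDegree (θ : K → ℂ) :=
    (Nat.le_mul_of_pos_right _ hpos).trans (Nat.le_mul_of_pos_right _ hpos)
  have h2 : K.index * charDegree (θ : K → ℂ) * charDegree (θ : K → ℂ) ≤ b ^ 2 := by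
    rw [heq, sq, mul_comm m, mul_assoc]
    exact Nat.mul_le_mul hb (hm1.trans hb)
  omega

theorem sum_constituents_eq_one [Fintype G] (K : Subgroup G) [K.Normal] [Fintype K]
    {χ : G → ℂ} (hχ : IsIrrCharacter G χ) (S : Finset (IrrCharacter K))
    (hS : ∀ θ : IrrCharacter K, θ ∈ S ↔ classInner (fun n : K => χ n) (θ : K → ℂ) ≠ 0) :
    ∑ θ ∈ S, ((inertia K (θ : K → ℂ)).index : ℝ)⁻¹ = 1 := by
  classical
  have horb : ∀ θ ∈ S, S.image (fun φ : IrrCharacter K => (φ : K → ℂ)) = conjOrbit K (θ : K → ℂ) := by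
    intro θ hθ
    ext ψ
    rw [Finset.mem_image, mem_conjOrbit]
    constructor
    · rintro ⟨φ, hφ, rfl⟩
      exact exists_conj_of_constituents K hχ θ.2 φ.2 ((hS θ).1 hθ) ((hS φ).1 hφ)
    · rintro ⟨g, rfl⟩
      refine ⟨⟨_, isIrr_conjNormFun K g θ.2⟩, (hS _).2 ?_, rfl⟩
      rw [classInner_res_conjNormFun K g (isClassFunction_irr hχ)]
      exact (hS θ).1 hθ
  have hcard : ∀ θ ∈ S, (inertia K (θ : K → ℂ)).index = S.card := by
    intro θ hθ
    rw [← card_conjOrbit, ← horb θ hθ, Finset.card_image_of_injective _ Subtype.val_injective]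
  obtain ⟨θ, hθ, hc⟩ := exists_constituent (isCharacter_restrict (isCharacter_of_irr hχ) K)
    fun e => irr_ne_zero hχ (congrFun e 1)
  have hne : S.Nonempty := ⟨⟨θ, hθ⟩, (hS _).2 hc⟩
  rw [Finset.sum_congr rfl fun θ hθ => by rw [hcard θ hθ], Finset.sum_const, nsmul_eq_mul,
    mul_inv_cancel₀ (Nat.cast_ne_zero.mpr hne.card_pos.ne')]

/-- Some element outside `K` has at most `2b²` conjugates. -/
theorem exists_small_class [Finite G] {b : ℕ} (h : DegLE G b) (K : Subgroup G) [K.Normal]
    (hK : b ^ 2 < K.index) :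
    ∃ x : G, x ∉ K ∧ (Subgroup.centralizer ({x} : Set G)).index ≤ 2 * b ^ 2 := by
  classical
  have := Fintype.ofFinite G
  choose m hm using fun (χ : IrrCharacter G) (θ : IrrCharacter K) =>
    classInner_char_nat (isCharacter_restrict (isCharacter_of_irr χ.2) K) (isCharacter_of_irr θ.2)
  set S := ∑ χ : IrrCharacter G, ∑ θ : IrrCharacter K, m χ θ * m χ θ with hS
  -- the sum of squares over one character of `K`
  have hcol : ∀ θ : IrrCharacter K, (∑ χ : IrrCharacter G, m χ θ * m χ θ) *
      (inertia K (θ : K → ℂ)).index = K.index := by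
    intro θ
    have hind := isCharacter_indFun K (isCharacter_of_irr θ.2)
    have h1 : classInner (indFun K (θ : K → ℂ)) (indFun K (θ : K → ℂ)) =
        ((∑ χ : IrrCharacter G, m χ θ * m χ θ : ℕ) : ℂ) := by
      rw [classInner_eq_sum_irr (isClassFunction_char hind), Nat.cast_sum]
      refine Finset.sum_congr rfl fun χ _ => ?_
      rw [← classInner_comm (indFun K (θ : K → ℂ)) (χ : G → ℂ),
        frobenius_reciprocity K _ (isClassFunction_irr χ.2), ← classInner_comm, hm]
      simp
    have h2 := classInner_indFun_self K θ.2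
    rw [h1, ← Nat.cast_mul, Nat.cast_inj] at h2
    refine Nat.eq_of_mul_eq_mul_left (Nat.card_pos (α := K)) ?_
    rw [← mul_assoc, h2, Subgroup.card_mul_index, Subgroup.card_mul_index]
  have hn : ∀ θ : IrrCharacter K, 2 ≤ (Finset.univ.filter fun χ : IrrCharacter G =>
      classInner (fun n : K => (χ : G → ℂ) n) (θ : K → ℂ) ≠ 0).card := fun θ =>
    two_le_card_over h K hK θ _ fun χ => by simp
  have hhalf : 2 * S ≤ K.index * Fintype.card (IrrCharacter G) := by
    have hk : (Fintype.card (IrrCharacter G) : ℝ) = ∑ θ : IrrCharacter K,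
        ((Finset.univ.filter fun χ : IrrCharacter G =>
          classInner (fun n : K => (χ : G → ℂ) n) (θ : K → ℂ) ≠ 0).card : ℝ) *
          ((inertia K (θ : K → ℂ)).index : ℝ)⁻¹ := by
      rw [← Finset.card_univ, Finset.card_eq_sum_ones, Nat.cast_sum]
      simp only [Nat.cast_one, ← nsmul_eq_mul, ← Finset.sum_const, Finset.sum_filter]
      rw [Finset.sum_comm]
      refine Finset.sum_congr rfl fun χ _ => ?_
      rw [← Finset.sum_filter]
      exact (sum_constituents_eq_one K χ.2 _ fun θ => by simp).symm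
    have hSr : (S : ℝ) = ∑ θ : IrrCharacter K,
        (K.index : ℝ) * ((inertia K (θ : K → ℂ)).index : ℝ)⁻¹ := by
      rw [hS, Finset.sum_comm, Nat.cast_sum]
      refine Finset.sum_congr rfl fun θ _ => ?_
      rw [eq_mul_inv_iff_mul_eq₀ (Nat.cast_ne_zero.mpr Subgroup.index_ne_zero_of_finite),
        ← Nat.cast_mul, hcol]
    have : (2 : ℝ) * S ≤ K.index * Fintype.card (IrrCharacter G) := by
      rw [hk, hSr, Finset.mul_sum, Finset.mul_sum]
      refine Finset.sum_le_sum fun θ _ => ?_
      rw [mul_left_comm]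
      refine mul_le_mul_of_nonneg_left (mul_le_mul_of_nonneg_right ?_ (by positivity)) (by positivity)
      exact_mod_cast hn θ
    exact_mod_cast this
  let c : G → ℕ := fun g => Nat.card (Subgroup.centralizer ({g} : Set G))
  have hc : ∀ g : G, (c g : ℂ) = ∑ χ : IrrCharacter G, (χ : G → ℂ) g * conj ((χ : G → ℂ) g) := by
    intro g
    rw [sum_irr_mul_conj g g, if_pos (IsConj.refl g)]
  have htot : ∑ g : G, c g = Fintype.card (IrrCharacter G) * Nat.card G := by
    have : ((∑ g : G, c g : ℕ) : ℂ) = ((Fintype.card (IrrCharacter G) * Nat.card G : ℕ) : ℂ) := by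
      rw [Nat.cast_sum, Finset.sum_congr rfl fun g _ => hc g, Finset.sum_comm, Nat.cast_mul,
        ← Finset.card_univ, ← nsmul_eq_mul, ← Finset.sum_const]
      refine Finset.sum_congr rfl fun χ _ => ?_
      have h1 := classInner_irr_self χ.2
      rw [classInner] at h1
      field_simp at h1
      exact h1
    exact_mod_cast this
  have hin : ∑ g : K, c g = Nat.card K * S := by
    have : ((∑ g : K, c g : ℕ) : ℂ) = ((Nat.card K * S : ℕ) : ℂ) := by
      rw [Nat.cast_sum, Finset.sum_congr rfl fun (g : K) _ => hc g, Finset.sum_comm, hS, Nat.cast_mul,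
        Nat.cast_sum, Finset.mul_sum]
      refine Finset.sum_congr rfl fun χ _ => ?_
      have h1 : classInner (fun n : K => (χ : G → ℂ) n) (fun n : K => (χ : G → ℂ) n) =
          ((∑ θ : IrrCharacter K, m χ θ * m χ θ : ℕ) : ℂ) := by
        rw [classInner_eq_sum_irr (isClassFunction_char (isCharacter_restrict (isCharacter_of_irr χ.2) K)),
          Nat.cast_sum]
        refine Finset.sum_congr rfl fun θ _ => ?_
        rw [← classInner_comm (fun n : K => (χ : G → ℂ) n) (θ : K → ℂ), hm]
        simp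
      rw [← h1, classInner, mul_inv_cancel_left₀ (Nat.cast_ne_zero.mpr Nat.card_pos.ne')]
    exact_mod_cast this
  have hsq : Nat.card G ≤ Fintype.card (IrrCharacter G) * b ^ 2 := by
    have h1 : ((∑ χ : IrrCharacter G, charDegree (χ : G → ℂ) ^ 2 : ℕ) : ℂ) = (Nat.card G : ℂ) := by
      rw [← sum_irr_degree_sq, Nat.cast_sum]
      refine Finset.sum_congr rfl fun χ _ => ?_
      rw [char_one (isCharacter_of_irr χ.2), Nat.cast_pow]
    rw [← Nat.cast_inj.mp h1, ← Finset.card_univ, ← smul_eq_mul, ← Finset.sum_const]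
    exact Finset.sum_le_sum fun χ _ => Nat.pow_le_pow_left (h _ χ.2) 2
  by_contra hno
  push Not at hno
  have hsplit : ∑ g : G, c g = ∑ g : K, c g + ∑ g ∈ Finset.univ.filter (· ∉ K), c g := by
    rw [← Finset.sum_filter_add_sum_filter_not Finset.univ (· ∈ K) c]
    congr 1
    rw [Finset.sum_subtype (p := (· ∈ K)) (Finset.univ.filter (· ∈ K)) (by simp)]
  have hout : 2 * b ^ 2 * ∑ g ∈ Finset.univ.filter (· ∉ K), c g ≤
      (Finset.univ.filter (· ∉ K)).card * Nat.card G := by
    rw [Finset.mul_sum, ← smul_eq_mul _ (Nat.card G), ← Finset.sum_const]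
    refine Finset.sum_le_sum fun g hg => ?_
    rw [mul_comm, ← Subgroup.card_mul_index (Subgroup.centralizer ({g} : Set G))]
    exact Nat.mul_le_mul_left _ (hno g (Finset.mem_filter.mp hg).2).le
  have hlt : (Finset.univ.filter (· ∉ K)).card < Nat.card G := by
    rw [Nat.card_eq_fintype_card]
    exact Finset.card_lt_univ_of_notMem (x := (1 : G)) (by simp)
  have hCK : Nat.card K * K.index = Nat.card G := Subgroup.card_mul_index K
  have hG : 0 < Nat.card G := Nat.card_pos
  have h2in : 2 * ∑ g : K, c g ≤ Fintype.card (IrrCharacter G) * Nat.card G := by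
    rw [hin, mul_left_comm, ← hCK, mul_left_comm (Fintype.card (IrrCharacter G)),
      mul_comm (Fintype.card (IrrCharacter G))]
    exact Nat.mul_le_mul_left _ hhalf
  have h3 : Fintype.card (IrrCharacter G) * Nat.card G ≤
      2 * ∑ g ∈ Finset.univ.filter (· ∉ K), c g := by omega
  have h4 : Nat.card G * Nat.card G ≤ 2 * b ^ 2 * ∑ g ∈ Finset.univ.filter (· ∉ K), c g := by
    calc Nat.card G * Nat.card G ≤ Fintype.card (IrrCharacter G) * b ^ 2 * Nat.card G :=
          Nat.mul_le_mul_right _ hsq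
      _ = b ^ 2 * (Fintype.card (IrrCharacter G) * Nat.card G) := by ring
      _ ≤ b ^ 2 * (2 * ∑ g ∈ Finset.univ.filter (· ∉ K), c g) := Nat.mul_le_mul_left _ h3
      _ = _ := by ring
  have h5 := Nat.mul_lt_mul_of_pos_right hlt hG
  omega

end CfsgLib.DegreeAbelian
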