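import Cfsg.Agent.Lib.DegreeAbelian.Skew
import Cfsg.Agent.Lib.CharTheory.Degree

/-!
A representation in which the central element `x` of a subgroup is not scalar, with a constituent of
large degree on that subgroup.
-/

namespace CfsgLib.DegreeAbelian

open Cfsg CfsgLib.CharTheory
open scoped ComplexConjugate

universe u

variable {G : Type u} [Group G] [Finite G]

/-- A linear constituent gives an eigenvector. -/
theorem exists_eigenvector [Fintype G] {n : ℕ} (τ : Representation ℂ G (Fin n → ℂ)) (φ : G →* ℂˣ)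
    (hc : classInner τ.character (fun g => (φ g : ℂ)) ≠ 0) :
    ∃ e : Fin n → ℂ, e ≠ 0 ∧ ∀ g, τ g e = (φ g : ℂ) • e := by
  classical
  set P : Module.End ℂ (Fin n → ℂ) := ∑ g : G, (φ g⁻¹ : ℂ) • τ g with hP
  have htr : LinearMap.trace ℂ _ P = (Nat.card G : ℂ) * classInner τ.character (fun g => (φ g : ℂ)) := by
    rw [classInner, mul_inv_cancel_left₀ (Nat.cast_ne_zero.mpr Nat.card_pos.ne'), hP, map_sum]
    refine Finset.sum_congr rfl fun g _ => ?_
    rw [map_smul, smul_eq_mul, mul_comm,
      ← char_apply_inv (isCharacter_of_irr (isIrrCharacter_linear φ)) g]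
    rfl
  have hP0 : P ≠ 0 := fun h0 => mul_ne_zero (Nat.cast_ne_zero.mpr Nat.card_pos.ne') hc
    (by rw [← htr, h0, map_zero])
  obtain ⟨v, hv⟩ : ∃ v, P v ≠ 0 := by
    by_contra h
    push Not at h
    exact hP0 (LinearMap.ext h)
  refine ⟨P v, hv, fun k => ?_⟩
  have hk : τ k * P = (φ k : ℂ) • P := by
    rw [hP, Finset.mul_sum, Finset.smul_sum]
    refine Fintype.sum_equiv (Equiv.mulLeft k) _ _ fun g => ?_
    show τ k * ((φ g⁻¹ : ℂ) • τ g) = (φ k : ℂ) • (φ (k * g)⁻¹ : ℂ) • τ (k * g)
    rw [mul_smul_comm, ← map_mul, smul_smul, ← Units.val_mul, ← map_mul]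
    congr 1
    rw [mul_inv_rev, map_mul, map_mul, mul_left_comm, ← map_mul φ k, mul_inv_cancel, map_one, mul_one]
  exact LinearMap.congr_fun hk v

/-- The central element is not scalar and a constituent on `H` has degree at least `b - 1`: then some
degree is larger than `b`. -/
theorem not_degLE_of_nonscalar {b : ℕ} (hb : 4 ≤ b) (hdeg : DegLE G b) (H : Subgroup G) [Fintype H]
    {x : H} (hx : x ∈ Subgroup.center H) {n : ℕ} (ρ : Representation ℂ G (Fin n → ℂ))
    [hρ : ρ.IsIrreducible] (hns : ¬ ∃ s : ℂ, ρ (x : G) = s • 1) {θ : H → ℂ}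
    (hθ : IsIrrCharacter H θ) (hc : classInner (fun h : H => ρ.character h) θ ≠ 0)
    (hbig : b - 1 ≤ charDegree θ) : False := by
  classical
  have := Fintype.ofFinite G
  set τ : Representation ℂ H (Fin n → ℂ) := ρ.comp H.subtype with hτ
  have hirrρ := isIrrCharacter_character ρ
  have hres := isCharacter_restrict (isCharacter_of_irr hirrρ) H
  have hτc : (fun h : H => ρ.character h) = τ.character := rfl
  have hn : charDegree ρ.character = n := by
    rw [charDegree, ρ.char_one, Complex.natCast_re, Nat.floor_natCast, Module.finrank_fintype_fun_eq_card,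
      Fintype.card_fin]
  obtain ⟨hle, heq⟩ := degree_le_of_constituent hres hθ hc
  rw [charDegree_res, hn] at hle heq
  have hnb : n ≤ b := hn ▸ hdeg _ hirrρ
  have hlt : charDegree θ < n := by
    refine lt_of_le_of_ne hle fun e => hns ?_
    obtain ⟨m, σ, hσ, hσc⟩ := hθ
    obtain ⟨φ⟩ := nonempty_equiv_of_character_eq σ τ (by rw [hσc, ← hτc, heq e])
    haveI : τ.IsIrreducible := isIrreducible_of_equiv φ
    obtain ⟨s, hs⟩ := exists_scalar_of_mem_center τ hx
    exact ⟨s, by rw [Module.End.one_eq_id]; exact hs⟩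
  have hn' : n = b := by omega
  have hθd : charDegree θ = b - 1 := by omega
  -- the linear constituent
  have hL := isCharacter_sub_irr hres hθ hc
  have hL1 : ((fun h : H => ρ.character h) - θ) 1 = 1 := by
    rw [Pi.sub_apply, char_one hres, charDegree_res, hn, char_one (isCharacter_of_irr hθ), hθd, hn',
      Nat.cast_sub (by omega : 1 ≤ b), Nat.cast_one, sub_sub_cancel]
  obtain ⟨φ, hφ⟩ := exists_hom_of_degree_one hL hL1
  have hφirr : IsIrrCharacter H (fun h => (φ h : ℂ)) := isIrrCharacter_linear φ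
  have hφne : θ ≠ fun h => (φ h : ℂ) := fun e => by
    have := congrArg charDegree e
    rw [hθd, show charDegree (fun h : H => (φ h : ℂ)) = 1 by simp [charDegree]] at this
    omega
  have hdec : (fun h : H => ρ.character h) = θ + fun h => (φ h : ℂ) := by rw [← hφ]; abel
  have hcφ : classInner τ.character (fun h : H => (φ h : ℂ)) ≠ 0 := by
    rw [← hτc, hdec, classInner_add_left, classInner_irr_ne hθ hφirr hφne, classInner_irr_self hφirr,
      zero_add]
    exact one_ne_zero
  obtain ⟨e, he, hee⟩ := exists_eigenvector τ φ hcφ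
  let p : Subrepresentation τ := ⟨ℂ ∙ e, fun h v hv => by
    obtain ⟨a, rfl⟩ := Submodule.mem_span_singleton.mp hv
    rw [map_smul, hee]
    exact Submodule.smul_mem _ _ (Submodule.smul_mem _ _ (Submodule.mem_span_singleton_self e))⟩
  obtain ⟨q, hq⟩ := exists_isCompl_subrep τ p
  have hp : p.toRepresentation.character = fun h => (φ h : ℂ) := by
    funext h
    have h1 : p.toRepresentation h = (φ h : ℂ) • (1 : Module.End ℂ p.toSubmodule) := by
      refine LinearMap.ext fun v => Subtype.ext ?_
      obtain ⟨a, ha⟩ := Submodule.mem_span_singleton.mp v.2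
      show τ h (v : Fin n → ℂ) = (φ h : ℂ) • (v : Fin n → ℂ)
      rw [← ha, map_smul, hee, smul_comm]
    show LinearMap.trace ℂ _ (p.toRepresentation h) = _
    rw [h1, map_smul, LinearMap.trace_one, finrank_span_singleton he, Nat.cast_one, smul_eq_mul, mul_one]
  have hqc : q.toRepresentation.character = θ := by
    have h1 := character_eq_add_of_isCompl τ p q hq
    rw [← hτc, hdec, hp, add_comm (fun h => (φ h : ℂ))] at h1
    exact (add_right_cancel h1).symm
  obtain ⟨m, σ, hσ, hσc⟩ := hθ
  obtain ⟨ψe⟩ := nonempty_equiv_of_character_eq σ q.toRepresentation (hσc.trans hqc.symm)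
  haveI : q.toRepresentation.IsIrreducible := isIrreducible_of_equiv ψe
  obtain ⟨ω, hω⟩ := exists_scalar_of_mem_center q.toRepresentation hx
  have hxq : ∀ w ∈ q.toSubmodule, ρ (x : G) w = ω • w := fun w hw =>
    congrArg Subtype.val (LinearMap.congr_fun hω ⟨w, hw⟩)
  have hxe : ρ (x : G) e = (φ x : ℂ) • e := hee x
  have hne : ω ≠ (φ x : ℂ) := by
    intro heω
    refine hns ⟨ω, LinearMap.ext fun v => ?_⟩
    have : v ∈ p.toSubmodule ⊔ q.toSubmodule := by rw [hq.sup_eq_top]; exact Submodule.mem_top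
    obtain ⟨y, hy, z, hz, rfl⟩ := Submodule.mem_sup.mp this
    obtain ⟨a, rfl⟩ := Submodule.mem_span_singleton.mp hy
    rw [map_add, map_smul, hxe, hxq z hz, ← heω, LinearMap.smul_apply, Module.End.one_apply, smul_add,
      smul_comm]
  have hWirr : ∀ M : Submodule ℂ (Fin n → ℂ), M ≤ q.toSubmodule →
      (∀ h ∈ H, ∀ w ∈ M, ρ h w ∈ M) → M = ⊥ ∨ M = q.toSubmodule := by
    intro M hMq hM
    let M' : Subrepresentation q.toRepresentation :=
      ⟨M.comap q.toSubmodule.subtype, fun h v hv => hM (h : G) h.2 _ hv⟩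
    rcases IsSimpleOrder.eq_bot_or_eq_top M' with hM' | hM'
    · left
      refine eq_bot_iff.mpr fun w hw => (Submodule.mem_bot ℂ).mpr ?_
      have hmem : (⟨w, hMq hw⟩ : q.toSubmodule) ∈ M'.toSubmodule := hw
      rw [hM'] at hmem
      exact congrArg Subtype.val ((Submodule.mem_bot ℂ).mp hmem)
    · right
      refine le_antisymm hMq fun w hw => ?_
      have hmem : (⟨w, hw⟩ : q.toSubmodule) ∈ M'.toSubmodule := by rw [hM']; exact Submodule.mem_top
      exact hmem
  obtain ⟨ψ, hψ, hψd⟩ := exists_larger ρ (by rw [Module.finrank_fintype_fun_eq_card, Fintype.card_fin]; omega)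
    H x.2 e he q.toSubmodule hq (fun h hh => ⟨_, hee ⟨h, hh⟩⟩)
    (fun h hh w hw => q.apply_mem_toSubmodule ⟨h, hh⟩ hw) hWirr hxq hxe hne
  have := hdeg ψ hψ
  rw [Module.finrank_fintype_fun_eq_card, Fintype.card_fin] at hψd
  omega

end CfsgLib.DegreeAbelian
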