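import Cfsg.Agent.Lib.DegreeAbelian.Minimal
import Cfsg.Agent.Lib.DegreeAbelian.Count
import Cfsg.Agent.Lib.DegreeAbelian.Decomp
import Cfsg.Agent.Lib.CharTheory.AbelianInertia

/-!
The centralizer of an element with few conjugates has degrees at most `b - 2`.
-/

namespace CfsgLib.DegreeAbelian

open Cfsg CfsgLib.CharTheory CfsgLib.CharTheory.ThreeDegrees
open scoped ComplexConjugate commutatorElement

universe u

variable {G : Type u} [Group G] [Finite G]

/-- The commutators with `x` are not all in the derived group of its centralizer. -/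
theorem not_le_commutator_centralizer (K : Subgroup G) [K.Normal]
    (hmin : ∀ L : Subgroup (G ⧸ K), L.Normal → L ≠ ⊥ → commutator (G ⧸ K) ≤ L)
    (hnc : commutator (G ⧸ K) ≠ ⊥) (hZ : Subgroup.center (G ⧸ K) = ⊥) {x : G} (hx : x ∉ K) :
    ¬ Subgroup.normalClosure (Set.range fun g : G => x * g * x⁻¹ * g⁻¹) ≤
      ⁅Subgroup.centralizer ({x} : Set G), Subgroup.centralizer ({x} : Set G)⁆ := by
  intro hle
  set π := QuotientGroup.mk' K with hπ
  have hπs : Function.Surjective π := QuotientGroup.mk'_surjective K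
  set D := commutator (G ⧸ K) with hD
  set C := Subgroup.normalClosure (Set.range fun g : G => x * g * x⁻¹ * g⁻¹)
  have hx1 : π x ≠ 1 := fun e => hx ((QuotientGroup.eq_one_iff x).mp e)
  obtain ⟨y, hy⟩ : ∃ y : G, π y * π x ≠ π x * π y := by
    by_contra hc
    push Not at hc
    have : π x ∈ Subgroup.center (G ⧸ K) := Subgroup.mem_center_iff.mpr fun z => by
      obtain ⟨w, rfl⟩ := hπs z
      exact hc w
    rw [hZ, Subgroup.mem_bot] at this
    exact hx1 this
  have hCne : C.map π ≠ ⊥ := by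
    intro e
    have hm : π (x * y * x⁻¹ * y⁻¹) ∈ C.map π :=
      Subgroup.mem_map_of_mem π (Subgroup.subset_normalClosure ⟨y, rfl⟩)
    rw [e, Subgroup.mem_bot] at hm
    simp only [map_mul, map_inv, mul_inv_eq_one, mul_inv_eq_iff_eq_mul, one_mul] at hm
    exact hy hm.symm
  have hCn : (C.map π).Normal := (Subgroup.normalClosure_normal).map π hπs
  set Z := Subgroup.centralizer ({π x} : Set (G ⧸ K)) with hZdef
  have hHZ : (Subgroup.centralizer ({x} : Set G)).map π ≤ Z := by
    rintro _ ⟨g, hg, rfl⟩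
    rw [Subgroup.mem_centralizer_singleton_iff, ← map_mul, ← map_mul,
      Subgroup.mem_centralizer_singleton_iff.mp hg]
  have hDZ : D ≤ ⁅Z, Z⁆ := by
    refine (hmin _ hCn hCne).trans ((Subgroup.map_mono hle).trans ?_)
    rw [Subgroup.map_commutator]
    exact Subgroup.commutator_mono hHZ hHZ
  have hDZ' : D ≤ Z := hDZ.trans (Subgroup.commutator_le_self Z)
  have hxQ : π x ∈ Subgroup.centralizer (D : Set (G ⧸ K)) :=
    Subgroup.mem_centralizer_iff.mpr fun d hd => Subgroup.mem_centralizer_singleton_iff.mp (hDZ' hd)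
  have hQne : Subgroup.centralizer (D : Set (G ⧸ K)) ≠ ⊥ := fun e => hx1 (by
    rwa [e, Subgroup.mem_bot] at hxQ)
  have hab : ∀ a ∈ D, ∀ c ∈ D, a * c = c * a := fun a ha c hc =>
    Subgroup.mem_centralizer_iff.mp (hmin _ inferInstance hQne hc) a ha
  obtain ⟨q, -, -, -, hD1, -, hfp⟩ := minimal_frobenius hmin hnc hZ hab
  have hxD : π x ∈ D := by
    by_contra hxD
    refine hD1 (eq_bot_iff.mpr fun d hd => Subgroup.mem_bot.mpr (hfp _ hxD d hd ?_))
    exact (Subgroup.mem_centralizer_singleton_iff.mp (hDZ' hd)).symm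
  have hZD : Z ≤ D := fun t ht => by
    by_contra htD
    exact hx1 (hfp t htD (π x) hxD (Subgroup.mem_centralizer_singleton_iff.mp ht))
  refine hD1 (eq_bot_iff.mpr (hDZ.trans ((Subgroup.commutator_mono hZD hZD).trans ?_)))
  rw [(Subgroup.commutator_eq_bot_iff_le_centralizer).mpr fun a ha =>
    Subgroup.mem_centralizer_iff.mpr fun c hc => hab c hc a ha]

/-- A character non-trivial on a normal subgroup `C` not contained in the derived group of `H`, with
a linear constituent on `H`. -/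
theorem exists_gamma [Fintype G] (H : Subgroup G) [Fintype H] (C : Subgroup G) [C.Normal]
    (hC : ¬ C ≤ ⁅H, H⁆) :
    ∃ γ : G → ℂ, IsIrrCharacter G γ ∧ ¬ (∀ c ∈ C, γ c = γ 1) ∧
      ∃ μ : H → ℂ, IsIrrCharacter H μ ∧ μ 1 = 1 ∧ classInner (fun h : H => γ h) μ ≠ 0 := by
  classical
  have h1 : ∃ γ : G → ℂ, IsIrrCharacter G γ ∧ classInner (indFun ⁅H, H⁆ fun _ => (1 : ℂ)) γ ≠ 0 ∧
      ¬ (∀ c ∈ C, γ c = γ 1) := by
    by_contra hall
    push Not at hall
    refine hC fun c hc => ?_
    have hcl := isClassFunction_char (isCharacter_indFun (G := G) ⁅H, H⁆ isCharacter_one)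
    have heq : indFun ⁅H, H⁆ (fun _ => (1 : ℂ)) c = indFun ⁅H, H⁆ (fun _ => (1 : ℂ)) 1 := by
      rw [congrFun (eq_sum_irr hcl) c, congrFun (eq_sum_irr hcl) 1, Finset.sum_apply, Finset.sum_apply]
      refine Finset.sum_congr rfl fun γ _ => ?_
      by_cases h0 : classInner (indFun ⁅H, H⁆ fun _ => (1 : ℂ)) (γ : G → ℂ) = 0
      · simp [h0]
      · rw [Pi.smul_apply, Pi.smul_apply, hall γ γ.2 h0 c hc]
    have hval : ∀ g : G, indFun ⁅H, H⁆ (fun _ => (1 : ℂ)) g = (Nat.card (⁅H, H⁆ : Subgroup G) : ℂ)⁻¹ *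
        ((Finset.univ.filter fun t : G => t⁻¹ * g * t ∈ ⁅H, H⁆).card : ℂ) := by
      intro g
      rw [indFun, Finset.card_eq_sum_ones, Finset.sum_filter, Nat.cast_sum]
      congr 1
      refine Finset.sum_congr rfl fun t _ => ?_
      split_ifs with ht
      · rw [extendByZero_of_mem _ _ ht, Nat.cast_one]
      · rw [extendByZero_of_not_mem _ _ ht, Nat.cast_zero]
    rw [hval, hval, mul_right_inj' (inv_ne_zero (Nat.cast_ne_zero.mpr Nat.card_pos.ne')), Nat.cast_inj,
      Finset.filter_true_of_mem (fun t (_ : t ∈ Finset.univ) => show t⁻¹ * 1 * t ∈ ⁅H, H⁆ by simp)] at heq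
    have hu := Finset.eq_univ_of_card _ heq
    have hone : (1 : G) ∈ Finset.univ.filter fun t : G => t⁻¹ * c * t ∈ ⁅H, H⁆ := by
      rw [hu]; exact Finset.mem_univ _
    simpa using (Finset.mem_filter.mp hone).2
  obtain ⟨γ, hγ, hγc, hγC⟩ := h1
  refine ⟨γ, hγ, hγC, ?_⟩
  rw [classInner_res_comm _ _ (isClassFunction_irr hγ)] at hγc
  have hsum : ∑ k : commutator H, γ ((k : H) : G) ≠ 0 := by
    intro h0
    refine hγc ?_
    rw [classInner]
    simp only [map_one, mul_one]
    have e : ∑ k : commutator H, γ ((k : H) : G) = ∑ c : (⁅H, H⁆ : Subgroup G), γ c :=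
      Fintype.sum_equiv (((commutator H).equivMapOfInjective H.subtype H.subtype_injective).trans
        (MulEquiv.subgroupCongr H.map_subtype_commutator)).toEquiv _ _ fun k => rfl
    rw [← e, h0, mul_zero]
  have hres := isCharacter_restrict (isCharacter_of_irr hγ) H
  obtain ⟨μ, hμ, hμs⟩ : ∃ μ : IrrCharacter H, classInner (fun h : H => γ h) (μ : H → ℂ) ≠ 0 ∧
      ∑ k : commutator H, (μ : H → ℂ) k ≠ 0 := by
    by_contra hall
    push Not at hall
    refine hsum ?_
    have hd := eq_sum_irr (isClassFunction_char hres)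
    rw [Finset.sum_congr rfl fun (k : commutator H) _ => congrFun hd (k : H)]
    simp only [Finset.sum_apply, Pi.smul_apply, smul_eq_mul]
    rw [Finset.sum_comm]
    refine Finset.sum_eq_zero fun μ _ => ?_
    rw [← Finset.mul_sum]
    by_cases h0 : classInner (fun h : H => γ h) (μ : H → ℂ) = 0
    · rw [h0, zero_mul]
    · rw [hall μ h0, mul_zero]
  refine ⟨μ, μ.2, ?_, hμ⟩
  rcases kernel_or_cosetAvg_eq_zero (commutator H) μ.2 with hk | hz
  · rw [char_one (isCharacter_of_irr μ.2), linear_of_kernel μ.2 hk, Nat.cast_one]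
  · refine absurd ?_ hμs
    have := congrFun hz 1
    simp only [cosetAvg, mul_one, Pi.zero_apply, mul_eq_zero, inv_eq_zero, Nat.cast_eq_zero,
      Nat.card_pos.ne', false_or] at this
    exact this

theorem charDegree_eq_of_apply {F : G → ℂ} {d : ℕ} (h : F 1 = d) : charDegree F = d := by
  rw [charDegree, h, Complex.natCast_re, Nat.floor_natCast]

/-- The degrees of the centralizer. -/
theorem degLE_centralizer {b : ℕ} (hb : 4 ≤ b) (hdeg : DegLE G b) (x : G)
    (hC : ¬ Subgroup.normalClosure (Set.range fun g : G => x * g * x⁻¹ * g⁻¹) ≤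
      ⁅Subgroup.centralizer ({x} : Set G), Subgroup.centralizer ({x} : Set G)⁆) :
    DegLE (Subgroup.centralizer ({x} : Set G)) (b - 2) := by
  classical
  have := Fintype.ofFinite G
  set H := Subgroup.centralizer ({x} : Set G) with hH
  set C := Subgroup.normalClosure (Set.range fun g : G => x * g * x⁻¹ * g⁻¹) with hCdef
  intro θ hθ
  by_contra hlt
  have hbig : b - 1 ≤ charDegree θ := by omega
  have := Fintype.ofFinite H
  let x' : H := ⟨x, Subgroup.mem_centralizer_singleton_iff.mpr rfl⟩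
  have hx' : x' ∈ Subgroup.center H := Subgroup.mem_center_iff.mpr fun h =>
    Subtype.ext (Subgroup.mem_centralizer_singleton_iff.mp h.2)
  -- scalar action of `x` kills the commutators with `x`
  have hker : ∀ {n : ℕ} (ρ : Representation ℂ G (Fin n → ℂ)), (∃ s : ℂ, ρ x = s • 1) →
      ∀ c ∈ C, ρ.character c = ρ.character 1 := by
    intro n ρ ⟨s, hs⟩ c hc
    have hle : C ≤ MonoidHom.ker ρ := by
      refine Subgroup.normalClosure_le_normal ?_
      rintro _ ⟨g, rfl⟩
      show ρ (x * g * x⁻¹ * g⁻¹) = 1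
      have hcomm : ρ (x * g) = ρ (g * x) := by
        rw [map_mul, map_mul, hs, smul_mul_assoc, mul_smul_comm, one_mul, mul_one]
      rw [mul_assoc (x * g) x⁻¹ g⁻¹, map_mul, hcomm, ← map_mul,
        show g * x * (x⁻¹ * g⁻¹) = 1 by group, map_one]
    show LinearMap.trace ℂ _ (ρ c) = LinearMap.trace ℂ _ (ρ 1)
    rw [MonoidHom.mem_ker.mp (hle hc), map_one ρ]
  obtain ⟨γ, hγ, hγC, μ, hμ, hμ1, hγμ⟩ := exists_gamma H C hC
  obtain ⟨χ, ⟨n, ρ, hρ, hρc⟩, hc⟩ := exists_over H hθ
  by_cases hns : ∃ s : ℂ, ρ x = s • 1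
  · -- pass to a constituent of `χ * γ`
    have hχ : IsIrrCharacter G χ := ⟨n, ρ, hρ, hρc⟩
    have hχC : ∀ c ∈ C, χ c = χ 1 := hρc ▸ hker ρ hns
    have hθμ := isIrrCharacter_mul_linear hθ hμ hμ1
    have hχH := isCharacter_restrict (isCharacter_of_irr hχ) H
    have hγH := isCharacter_restrict (isCharacter_of_irr hγ) H
    have hR := isCharacter_sub_irr hχH hθ hc
    have hR' := isCharacter_sub_irr hγH hμ hγμ
    have hθμc := isCharacter_of_irr hθμ
    have hF : classInner (fun h : H => (χ * γ) h) (θ * μ) ≠ 0 := by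
      have e : (fun h : H => (χ * γ) h) = θ * μ + (((fun h : H => χ h) - θ) * μ +
          (fun h : H => χ h) * ((fun h : H => γ h) - μ)) := by
        funext h
        simp only [Pi.mul_apply, Pi.add_apply, Pi.sub_apply]
        ring
      obtain ⟨k, hk⟩ := classInner_char_nat (isCharacter_add
        (isCharacter_mul hR (isCharacter_of_irr hμ)) (isCharacter_mul hχH hR')) hθμc
      rw [e, classInner_add_left, classInner_irr_self hθμ, hk]
      exact_mod_cast Nat.succ_ne_zero k ∘ fun h => by omega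
    have hprod := isCharacter_mul (isCharacter_of_irr hχ) (isCharacter_of_irr hγ)
    obtain ⟨U, hU1, hU2⟩ : ∃ U : IrrCharacter G, classInner (χ * γ) (U : G → ℂ) ≠ 0 ∧
        classInner (fun h : H => (U : G → ℂ) h) (θ * μ) ≠ 0 := by
      by_contra hall
      push Not at hall
      refine hF ?_
      have hd := eq_sum_irr (isClassFunction_char hprod)
      rw [show (fun h : H => (χ * γ) h) = ∑ U : IrrCharacter G,
          classInner (χ * γ) (U : G → ℂ) • fun h : H => (U : G → ℂ) h by
        funext h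
        rw [congrFun hd h]
        simp only [Finset.sum_apply, Pi.smul_apply], classInner_sum_left]
      refine Finset.sum_eq_zero fun U _ => ?_
      rw [classInner_smul_left]
      by_cases h0 : classInner (χ * γ) (U : G → ℂ) = 0
      · rw [h0, zero_mul]
      · rw [hall U h0, mul_zero]
    obtain ⟨m, σ, hσ, hσc⟩ := U.2
    have hUns : ¬ ∃ s : ℂ, σ x = s • 1 := by
      intro hsc
      refine hU1 ?_
      rw [triple]
      have hUC : ∀ c ∈ C, (U : G → ℂ) c = (U : G → ℂ) 1 := hσc ▸ hker σ hsc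
      have hfinv : ∀ (c : C) (g : G), ((fun g => conj (χ g)) * (U : G → ℂ)) ((c : G) * g) =
          ((fun g => conj (χ g)) * (U : G → ℂ)) g := fun c g => by
        simp only [Pi.mul_apply]
        rw [apply_mul_of_kernel C (isCharacter_of_irr hχ) hχC c g,
          apply_mul_of_kernel C (isCharacter_of_irr U.2) hUC c g]
      rw [← classInner_cosetAvg_left C γ hfinv,
        (kernel_or_cosetAvg_eq_zero C hγ).resolve_left hγC, classInner_zero_left]
    rw [← hσc] at hU2
    refine not_degLE_of_nonscalar hb hdeg H hx' σ hUns hθμ hU2 ?_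
    rw [charDegree_mul (isCharacter_of_irr hθ) (isCharacter_of_irr hμ),
      charDegree_eq_of_apply (F := μ) (d := 1) (by rw [hμ1, Nat.cast_one]), mul_one]
    exact hbig
  · subst hρc
    exact not_degLE_of_nonscalar hb hdeg H hx' ρ hns hθ hc hbig

theorem exists_of_trivial_center {b : ℕ} (hb : 4 ≤ b) (hdeg : DegLE G b) (K : Subgroup G) [K.Normal]
    (hmin : ∀ L : Subgroup (G ⧸ K), L.Normal → L ≠ ⊥ → commutator (G ⧸ K) ≤ L)
    (hnc : commutator (G ⧸ K) ≠ ⊥) (hZ : Subgroup.center (G ⧸ K) = ⊥) (hK : b ^ 2 < K.index) :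
    ∃ H : Subgroup G, H.index ≤ 2 * b ^ 2 ∧ DegLE H (b - 2) := by
  obtain ⟨x, hxK, hxi⟩ := exists_small_class hdeg K hK
  exact ⟨_, hxi, degLE_centralizer hb hdeg x (not_le_commutator_centralizer K hmin hnc hZ hxK)⟩

end CfsgLib.DegreeAbelian
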