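import Cfsg.Agent.Lib.DegreeAbelian.Basic

/-!
A minimal non-abelian quotient with non-trivial center.
-/

namespace CfsgLib.DegreeAbelian

open Cfsg CfsgLib.CharTheory CfsgLib.CharTheory.ThreeDegrees
open scoped ComplexConjugate

universe u

variable {G : Type u} [Group G] [Finite G]

theorem exists_nonlinear (B : Type u) [Group B] [Finite B] (h : commutator B ≠ ⊥) :
    ∃ ψ : B → ℂ, IsIrrCharacter B ψ ∧ 2 ≤ charDegree ψ := by
  by_contra hc
  push Not at hc
  have hd : DegLE B 1 := fun ψ hψ => Nat.le_of_lt_succ (hc ψ hψ)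
  refine h ?_
  rw [commutator_def, Subgroup.commutator_eq_bot_iff_le_centralizer]
  exact fun a _ => Subgroup.mem_centralizer_iff.mpr fun x _ => hd.commutative le_rfl x a

/-- The lift of a non-linear character of a non-abelian quotient. -/
theorem exists_lift_nonlinear (K : Subgroup G) [K.Normal] (h : commutator (G ⧸ K) ≠ ⊥) :
    ∃ β : G → ℂ, IsIrrCharacter G β ∧ (∀ k ∈ K, β k = β 1) ∧ 2 ≤ charDegree β := by
  obtain ⟨ψ, hψ, h2⟩ := exists_nonlinear (G ⧸ K) h
  refine ⟨fun g => ψ (QuotientGroup.mk' K g),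
    isIrrCharacter_comp_surjective hψ (QuotientGroup.mk' K) (QuotientGroup.mk'_surjective K),
    fun k hk => ?_, ?_⟩
  · show ψ (QuotientGroup.mk' K k) = ψ (QuotientGroup.mk' K 1)
    rw [map_one, QuotientGroup.mk'_apply, (QuotientGroup.eq_one_iff k).mpr hk]
  · exact h2

/-- Degrees in the kernel of a non-abelian quotient are at most half the bound. -/
theorem DegLE.half_kernel {b : ℕ} (h : DegLE G b) (K : Subgroup G) [K.Normal]
    (hK : commutator (G ⧸ K) ≠ ⊥) : DegLE K (b / 2) := by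
  obtain ⟨β, hβ, hβK, h2⟩ := exists_lift_nonlinear K hK
  refine h.half K fun χ hχ hres => ?_
  have := Fintype.ofFinite G
  have := Fintype.ofFinite K
  refine ⟨β * χ, (gallagher K (isCharacter_of_irr hχ) hres).1 β hβ hβK, ?_⟩
  rw [charDegree_mul (isCharacter_of_irr hβ) (isCharacter_of_irr hχ)]
  exact Nat.mul_le_mul_right _ h2

/-- If the minimal non-abelian quotient has a center, then a normal subgroup of index at most `b²`
has degrees at most `b / 2`. -/
theorem exists_of_center {b : ℕ} (h : DegLE G b) (K : Subgroup G) [K.Normal]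
    (hnc : commutator (G ⧸ K) ≠ ⊥)
    (hmin : ∀ L : Subgroup (G ⧸ K), L.Normal → L ≠ ⊥ → commutator (G ⧸ K) ≤ L)
    (hZ : Subgroup.center (G ⧸ K) ≠ ⊥) :
    ∃ M : Subgroup G, M.index ≤ b ^ 2 ∧ DegLE M (b / 2) := by
  classical
  have := Fintype.ofFinite G
  obtain ⟨ψ, ⟨n, ρ, hρ, hψρ⟩, h2⟩ := exists_nonlinear (G ⧸ K) hnc
  have hψirr : IsIrrCharacter (G ⧸ K) ψ := ⟨n, ρ, hρ, hψρ⟩
  have hcZ : commutator (G ⧸ K) ≤ Subgroup.center (G ⧸ K) := hmin _ inferInstance hZ
  have hfaith : ρ.ker = ⊥ := by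
    by_contra hne
    have hle := hmin ρ.ker (MonoidHom.normal_ker ρ) hne
    have h1 : charDegree ψ = 1 := linear_of_kernel hψirr fun k hk => by
      rw [← hψρ]
      show LinearMap.trace ℂ _ (ρ k) = LinearMap.trace ℂ _ (ρ 1)
      rw [MonoidHom.mem_ker.mp (hle hk), map_one ρ]
    omega
  set π := QuotientGroup.mk' K with hπ
  set β : G → ℂ := fun g => ψ (π g) with hβdef
  have hβ : IsIrrCharacter G β :=
    isIrrCharacter_comp_surjective hψirr π (QuotientGroup.mk'_surjective K)
  set e := charDegree β with he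
  have hβ1 : β 1 = (e : ℂ) := char_one (isCharacter_of_irr hβ)
  have hψ1 : ψ 1 = (e : ℂ) := by rw [← hβ1, hβdef]; simp
  set M := (Subgroup.center (G ⧸ K)).comap π with hM
  have hmem : ∀ g, g ∈ M ↔ π g ∈ Subgroup.center (G ⧸ K) := fun g => Iff.rfl
  have hscal : ∀ z ∈ Subgroup.center (G ⧸ K), ∃ ω : ℂ, ρ z = ω • (LinearMap.id : Module.End ℂ (Fin n → ℂ)) ∧
      ω * conj ω = 1 := by
    intro z hz
    obtain ⟨ω, hω⟩ := exists_scalar_of_mem_center ρ hz
    refine ⟨ω, hω, ?_⟩
    have hk : Nat.card (G ⧸ K) ≠ 0 := Nat.card_pos.ne'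
    have hp : ρ z ^ Nat.card (G ⧸ K) = 1 := by rw [← map_pow, pow_card_eq_one', map_one]
    have hn : Nontrivial (Fin n → ℂ) := by
      by_contra hs
      rw [not_nontrivial_iff_subsingleton] at hs
      have : ψ 1 = 0 := by
        rw [← hψρ, ρ.char_one, Module.finrank_zero_iff.mpr hs, Nat.cast_zero]
      exact irr_ne_zero hψirr this
    have hω1 : ω ^ Nat.card (G ⧸ K) = 1 := by
      rw [hω, ← Module.End.one_eq_id, smul_pow, one_pow] at hp
      obtain ⟨v, hv⟩ := exists_ne (0 : Fin n → ℂ)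
      have hpv := LinearMap.congr_fun hp v
      simp only [LinearMap.smul_apply, Module.End.one_apply] at hpv
      exact smul_left_injective ℂ hv (hpv.trans (one_smul ℂ v).symm)
    rw [Complex.mul_conj', Complex.norm_eq_one_of_pow_eq_one hω1 hk]
    norm_num
  have hoff : ∀ g : G, g ∉ M → β g = 0 := by
    intro g hg
    rw [hmem, Subgroup.mem_center_iff] at hg
    push Not at hg
    obtain ⟨y, hy⟩ := hg
    set c := y * π g * y⁻¹ * (π g)⁻¹ with hc
    have hcm : c ∈ commutator (G ⧸ K) := Subgroup.commutator_mem_commutator trivial trivial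
    obtain ⟨ω, hω, -⟩ := hscal c (hcZ hcm)
    have hω1 : ω ≠ 1 := by
      intro h1
      have hker : c ∈ ρ.ker := by
        rw [MonoidHom.mem_ker, hω, h1, one_smul, Module.End.one_eq_id]
      rw [hfaith, Subgroup.mem_bot, hc] at hker
      refine hy ?_
      rw [mul_inv_eq_one, mul_inv_eq_iff_eq_mul] at hker
      exact hker
    have hval : ψ (π g) = ω * ψ (π g) := by
      conv_lhs => rw [← isClassFunction_irr hψirr (π g) y,
        show y * π g * y⁻¹ = c * π g by rw [hc]; group]
      rw [← hψρ]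
      show LinearMap.trace ℂ _ (ρ (c * π g)) = ω * LinearMap.trace ℂ _ (ρ (π g))
      rw [map_mul, hω, ← Module.End.one_eq_id, smul_mul_assoc, one_mul, map_smul, smul_eq_mul]
    have : (ω - 1) * ψ (π g) = 0 := by linear_combination -hval
    exact (mul_eq_zero.mp this).resolve_left (sub_ne_zero.mpr hω1)
  have hon : ∀ g : G, g ∈ M → β g * conj (β g) = (e : ℂ) ^ 2 := by
    intro g hg
    obtain ⟨ω, hω, hωn⟩ := hscal (π g) ((hmem g).1 hg)
    have : β g = ω * e := by
      show ψ (π g) = _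
      rw [← hψ1, ← hψρ]
      show LinearMap.trace ℂ _ (ρ (π g)) = ω * LinearMap.trace ℂ _ (ρ 1)
      rw [hω, map_one ρ, ← Module.End.one_eq_id, map_smul, smul_eq_mul]
    rw [this, map_mul, Complex.conj_natCast]
    linear_combination (e : ℂ) ^ 2 * hωn
  have hsum : ∀ f : G → ℂ, ∑ g : G, (β * f) g * conj ((β * f) g) =
      (e : ℂ) ^ 2 * ∑ m : M, f m * conj (f m) := by
    intro f
    rw [Finset.mul_sum, ← Finset.sum_subset (Finset.subset_univ (Finset.univ.filter (· ∈ M)))
      fun g _ hg => by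
        have : g ∉ M := fun hm => hg (Finset.mem_filter.mpr ⟨Finset.mem_univ _, hm⟩)
        simp [hoff g this]]
    rw [Finset.sum_subtype (p := (· ∈ M)) (Finset.univ.filter (· ∈ M)) (by simp)]
    refine Finset.sum_congr rfl fun m _ => ?_
    rw [Pi.mul_apply, map_mul, mul_mul_mul_comm, hon m m.2]
  have hidx : M.index = e ^ 2 := by
    have h1 := classInner_irr_self hβ
    rw [classInner] at h1
    have h3 := hsum (fun _ => 1)
    simp only [Pi.mul_apply, mul_one, map_one, Finset.sum_const, Finset.card_univ,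
      nsmul_eq_mul] at h3
    rw [h3, ← Nat.card_eq_fintype_card] at h1
    field_simp at h1
    rw [← Subgroup.card_mul_index M, Nat.cast_mul] at h1
    have hM0 : (Nat.card M : ℂ) ≠ 0 := Nat.cast_ne_zero.mpr Nat.card_pos.ne'
    have h4 : ((M.index : ℕ) : ℂ) = ((e ^ 2 : ℕ) : ℂ) := by
      push_cast
      exact mul_left_cancel₀ hM0 (by linear_combination -h1)
    exact_mod_cast h4
  refine ⟨M, hidx ▸ Nat.pow_le_pow_left (h β hβ) 2, h.half M fun χ hχ hres => ?_⟩
  refine ⟨β * χ, ?_, ?_⟩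
  · refine irr_of_char_norm_one (isCharacter_mul (isCharacter_of_irr hβ) (isCharacter_of_irr hχ)) ?_
    have h1 := classInner_irr_self hres
    rw [classInner] at h1
    rw [classInner, hsum χ, ← Subgroup.card_mul_index M, hidx]
    push_cast
    have hM0 : (Nat.card M : ℂ) ≠ 0 := Nat.cast_ne_zero.mpr Nat.card_pos.ne'
    have he0 : (e : ℂ) ≠ 0 := by
      have : 0 < e := (charDegree_spec' hβ).2
      exact_mod_cast this.ne'
    rw [← h1]
    field_simp
  · rw [charDegree_mul (isCharacter_of_irr hβ) (isCharacter_of_irr hχ)]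
    refine Nat.mul_le_mul_right _ ?_
    have : (charDegree ψ : ℂ) = (e : ℂ) := by rw [← hψ1, char_one (isCharacter_of_irr hψirr)]
    rw [← he, ← Nat.cast_inj.mp this]
    exact h2

end CfsgLib.DegreeAbelian
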