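import Cfsg.Agent.Lib.CharTheory.TwoDegreesStructure

/-!
A group with trivial center in which every non-trivial normal subgroup contains the derived group.
-/

namespace CfsgLib.DegreeAbelian

open Cfsg CfsgLib.CharTheory
open scoped commutatorElement

universe u

theorem minimal_frobenius {B : Type u} [Group B] [Finite B]
    (hmin : ∀ L : Subgroup B, L.Normal → L ≠ ⊥ → commutator B ≤ L)
    (hnc : commutator B ≠ ⊥) (hZ : Subgroup.center B = ⊥)
    (hab : ∀ a ∈ commutator B, ∀ c ∈ commutator B, a * c = c * a) :
    ∃ q : ℕ, q.Prime ∧ (∀ d ∈ commutator B, d ^ q = 1) ∧ ¬ q ∣ (commutator B).index ∧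
      commutator B ≠ ⊥ ∧ commutator B ≠ ⊤ ∧
      ∀ t, t ∉ commutator B → ∀ d ∈ commutator B, t * d = d * t → d = 1 := by
  refine minimal_nonnilpotent (fun hnil => ?_) (fun L hL hL1 => ?_) hab
  · haveI : Nontrivial B := by
      by_contra h
      rw [not_nontrivial_iff_subsingleton] at h
      exact hnc (Subsingleton.elim _ _)
    exact Group.IsNilpotent.center_ne_bot B hZ
  · refine Subgroup.nilpotent_iff_lowerCentralSeries.2 ⟨1, ?_⟩
    rw [Subgroup.top_lowerCentralSeries_one, commutator_def,
      ← Subgroup.map_top_of_surjective (QuotientGroup.mk' L) (QuotientGroup.mk'_surjective L),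
      ← Subgroup.map_commutator, Subgroup.map_eq_bot_iff, QuotientGroup.ker_mk']
    exact hmin L hL hL1

end CfsgLib.DegreeAbelian
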