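import Cfsg.Agent.Lib.DegreeAbelian.CenterCase
import Cfsg.Agent.Lib.DegreeAbelian.Minimal
import Cfsg.Agent.Lib.CharTheory.FrobQuotientDegrees
import Cfsg.Agent.Lib.CharTheory.Degree

/-!
The case of degrees at most three.
-/

namespace CfsgLib.DegreeAbelian

open Cfsg CfsgLib.CharTheory CfsgLib.CharTheory.ThreeDegrees
open scoped commutatorElement

universe u

/-- A perfect group with a simple lattice of normal subgroups has a degree above three. -/
theorem not_simple_perfect {Q : Type u} [Group Q] [Finite Q] [Nontrivial Q]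
    (hperf : commutator Q = ⊤) (hsimple : ∀ L : Subgroup Q, L.Normal → L = ⊥ ∨ L = ⊤)
    (hdeg : DegLE Q 3) : False := by
  classical
  have := Fintype.ofFinite Q
  have hZ : Subgroup.center Q = ⊥ := (hsimple _ inferInstance).resolve_right fun e => by
    have : commutator Q = ⊥ := by
      rw [commutator_def, Subgroup.commutator_eq_bot_iff_le_centralizer]
      intro a _
      exact Subgroup.mem_centralizer_iff.mpr fun c _ =>
        (Subgroup.mem_center_iff.mp (e ▸ Subgroup.mem_top a : a ∈ Subgroup.center Q) c)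
    rw [hperf] at this
    exact top_ne_bot this
  have hlin : ∀ φ : Q → ℂ, IsIrrCharacter Q φ → charDegree φ = 1 → φ = fun _ => 1 := fun φ hφ h1 =>
    funext fun k => linear_apply hφ h1 k (hperf ▸ Subgroup.mem_top k)
  by_cases h2 : ∃ ψ : Q → ℂ, IsIrrCharacter Q ψ ∧ charDegree ψ = 2
  · obtain ⟨ψ, hψ, hd⟩ := h2
    have hψ' := hψ
    obtain ⟨n, ρ, hρ, hρc⟩ := hψ'
    have hn : n = 2 := by
      have h1 := char_one (isCharacter_of_irr hψ)
      rw [← hρc, ρ.char_one, hρc, hd, Module.finrank_fintype_fun_eq_card, Fintype.card_fin,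
        Nat.cast_inj] at h1
      exact h1
    subst hn
    have hker : MonoidHom.ker ρ = ⊥ := (hsimple _ (MonoidHom.normal_ker ρ)).resolve_right fun e => by
      have := linear_of_kernel hψ fun k _ => by
        rw [← hρc]
        show LinearMap.trace ℂ _ (ρ k) = LinearMap.trace ℂ _ (ρ 1)
        rw [MonoidHom.mem_ker.mp (e ▸ Subgroup.mem_top k : k ∈ MonoidHom.ker ρ), map_one ρ]
      omega
    haveI := Fact.mk Nat.prime_two
    obtain ⟨t, ht⟩ := exists_prime_orderOf_dvd_card' 2 (hd ▸ degree_dvd_card hψ)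
    have ht2 : ρ t * ρ t = 1 := by
      have hp := pow_orderOf_eq_one t
      rw [ht] at hp
      rw [← map_mul, ← sq, hp, map_one]
    have hdet : LinearMap.det (ρ t) = 1 := by
      let d : Q →* ℂˣ := (LinearMap.det.comp ρ).toHomUnits
      have hd' : t ∈ MonoidHom.ker d :=
        Abelianization.commutator_subset_ker d (hperf ▸ Subgroup.mem_top t)
      exact congrArg Units.val (MonoidHom.mem_ker.mp hd')
    set A : Matrix (Fin 2) (Fin 2) ℂ := LinearMap.toMatrix' (ρ t) with hA
    have hAA : A * A = 1 := by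
      rw [hA, ← LinearMap.toMatrix'_comp, ← Module.End.mul_eq_comp, ht2]
      exact LinearMap.toMatrix'_id
    have hAd : A.det = 1 := by rw [hA, LinearMap.det_toMatrix']; exact hdet
    have e00 : A 0 0 * A 0 0 + A 0 1 * A 1 0 = 1 := by
      have := congrFun (congrFun hAA 0) 0
      simpa [Matrix.mul_apply, Fin.sum_univ_two] using this
    have e01 : A 0 0 * A 0 1 + A 0 1 * A 1 1 = 0 := by
      have := congrFun (congrFun hAA 0) 1
      simpa [Matrix.mul_apply, Fin.sum_univ_two] using this
    have e10 : A 1 0 * A 0 0 + A 1 1 * A 1 0 = 0 := by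
      have := congrFun (congrFun hAA 1) 0
      simpa [Matrix.mul_apply, Fin.sum_univ_two] using this
    rw [Matrix.det_fin_two] at hAd
    have hsum : A 0 0 + A 1 1 ≠ 0 := by
      intro h0
      have : A 0 0 * (A 0 0 + A 1 1) = 2 := by linear_combination e00 + hAd
      rw [h0, mul_zero] at this
      norm_num at this
    have hb0 : A 0 1 = 0 := (mul_eq_zero.mp (show A 0 1 * (A 0 0 + A 1 1) = 0 by
      linear_combination e01)).resolve_right hsum
    have hc0 : A 1 0 = 0 := (mul_eq_zero.mp (show A 1 0 * (A 0 0 + A 1 1) = 0 by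
      linear_combination e10)).resolve_right hsum
    have had : A 1 1 = A 0 0 := by
      rw [hb0, hc0] at e00 hAd
      linear_combination A 0 0 * hAd - A 1 1 * e00
    have hAs : A = (A 0 0) • (1 : Matrix (Fin 2) (Fin 2) ℂ) := by
      ext i j
      fin_cases i <;> fin_cases j <;> simp [hb0, hc0, had]
    have hρs : ρ t = (A 0 0) • 1 := by
      apply LinearMap.toMatrix'.injective
      rw [map_smul, ← hA, Module.End.one_eq_id, LinearMap.toMatrix'_id]
      exact hAs
    have htZ : t ∈ Subgroup.center Q := Subgroup.mem_center_iff.mpr fun g => by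
      have hm : (g * t) * (t * g)⁻¹ ∈ MonoidHom.ker ρ := by
        rw [MonoidHom.mem_ker, map_mul, map_mul, hρs, mul_smul_comm, mul_one,
          show ρ g = (1 : Module.End ℂ (Fin 2 → ℂ)) * ρ g from (one_mul _).symm,
          ← smul_mul_assoc, ← hρs, ← map_mul, ← map_mul, mul_inv_cancel, map_one]
      rw [hker, Subgroup.mem_bot, mul_inv_eq_one] at hm
      exact hm
    rw [hZ, Subgroup.mem_bot] at htZ
    rw [htZ, orderOf_one] at ht
    omega
  · push Not at h2
    have hall : ∀ φ : IrrCharacter Q, (φ : Q → ℂ) ≠ (fun _ => 1) → charDegree (φ : Q → ℂ) = 3 := by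
      intro φ hne
      have h3 := hdeg _ φ.2
      have hp := (charDegree_spec' φ.2).2
      have h1 : charDegree (φ : Q → ℂ) ≠ 1 := fun e => hne (hlin _ φ.2 e)
      have := h2 _ φ.2
      omega
    have hsq : ∑ χ : IrrCharacter Q, charDegree (χ : Q → ℂ) ^ 2 = Nat.card Q := by
      have : ((∑ χ : IrrCharacter Q, charDegree (χ : Q → ℂ) ^ 2 : ℕ) : ℂ) = (Nat.card Q : ℂ) := by
        rw [← sum_irr_degree_sq, Nat.cast_sum]
        refine Finset.sum_congr rfl fun χ _ => ?_
        rw [char_one (isCharacter_of_irr χ.2), Nat.cast_pow]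
      exact_mod_cast this
    set one : IrrCharacter Q := ⟨fun _ => 1, isIrrCharacter_one⟩ with hone
    have hne : (Finset.univ.erase one).Nonempty := by
      rw [Finset.nonempty_iff_ne_empty]
      intro he
      rw [← Finset.add_sum_erase _ _ (Finset.mem_univ one), he, Finset.sum_empty, add_zero] at hsq
      have h1 : charDegree (one : Q → ℂ) = 1 := by simp [hone, charDegree]
      rw [h1, one_pow] at hsq
      exact absurd hsq (Finite.one_lt_card (α := Q)).ne
    obtain ⟨φ, hφ⟩ := hne
    have h3 : 3 ∣ Nat.card Q := by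
      rw [← hall φ fun e => (Finset.mem_erase.mp hφ).1 (Subtype.ext e)]
      exact degree_dvd_card φ.2
    rw [← hsq, ← Finset.add_sum_erase _ _ (Finset.mem_univ one)] at h3
    have h9 : 3 ∣ ∑ χ ∈ Finset.univ.erase one, charDegree (χ : Q → ℂ) ^ 2 :=
      Finset.dvd_sum fun χ hχ => by
        rw [hall χ fun e => (Finset.mem_erase.mp hχ).1 (Subtype.ext e)]
        exact dvd_pow_self 3 two_ne_zero
    have := (Nat.dvd_add_left h9).mp h3
    rw [show charDegree (one : Q → ℂ) = 1 by simp [hone, charDegree], one_pow] at this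
    exact absurd this (by norm_num)

/-- With degrees at most three, a minimal normal derived group is abelian. -/
theorem commutator_comm_of_degLE_three {B : Type u} [Group B] [Finite B] (hdeg : DegLE B 3)
    (hmin : ∀ L : Subgroup B, L.Normal → L ≠ ⊥ → commutator B ≤ L) :
    ∀ a ∈ commutator B, ∀ c ∈ commutator B, a * c = c * a := by
  set D := commutator B with hD
  by_cases hbot : ⁅D, D⁆ = ⊥
  · rw [Subgroup.commutator_eq_bot_iff_le_centralizer] at hbot
    exact fun a ha c hc => (Subgroup.mem_centralizer_iff.mp (hbot ha) c hc).symm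
  exfalso
  have hDD : ⁅D, D⁆ = D := le_antisymm (Subgroup.commutator_le_self D) (hmin _ inferInstance hbot)
  have hperf : commutator D = ⊤ := by
    apply Subgroup.map_injective D.subtype_injective
    rw [Subgroup.map_subtype_commutator, hDD, ← MonoidHom.range_eq_map, D.range_subtype]
  have hne : Nontrivial D := by
    rw [Subgroup.nontrivial_iff_ne_bot]
    intro e
    exact hbot (by rw [e]; simp)
  obtain ⟨M, ⟨hMn, hMt⟩, hMmax⟩ := (Set.toFinite {L : Subgroup D | L.Normal ∧ L ≠ ⊤}).exists_maximal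
    ⟨⊥, inferInstance, bot_ne_top⟩
  haveI := hMn
  haveI : Nontrivial (D ⧸ M) := QuotientGroup.nontrivial_iff.mpr hMt
  refine not_simple_perfect (Q := D ⧸ M) ?_ (fun L hL => ?_) ((hdeg.subgroup D).quotient M)
  · rw [commutator_def, ← Subgroup.map_top_of_surjective (QuotientGroup.mk' M) (QuotientGroup.mk'_surjective M),
      ← Subgroup.map_commutator, ← commutator_def, hperf]
  · haveI := hL
    have hML : M ≤ L.comap (QuotientGroup.mk' M) := fun m hm => by
      rw [Subgroup.mem_comap, QuotientGroup.mk'_apply, (QuotientGroup.eq_one_iff m).mpr hm]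
      exact one_mem L
    by_cases htop : L.comap (QuotientGroup.mk' M) = ⊤
    · right
      rw [eq_top_iff]
      intro y _
      obtain ⟨g, rfl⟩ := QuotientGroup.mk'_surjective M y
      exact Subgroup.mem_comap.mp (htop.symm ▸ Subgroup.mem_top g)
    · left
      have h := hMmax ⟨inferInstance, htop⟩ hML
      refine eq_bot_iff.mpr fun y hy => ?_
      obtain ⟨g, rfl⟩ := QuotientGroup.mk'_surjective M y
      exact Subgroup.mem_bot.mpr ((QuotientGroup.eq_one_iff g).mpr (h hy))

/-- A subgroup generated by commuting elements of exponent `q`. -/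
theorem card_closure_le {B : Type u} [Group B] [Finite B] {q : ℕ} (hq : 0 < q) (S : Finset B)
    (hpow : ∀ s ∈ S, s ^ q = 1) (hcomm : ∀ s ∈ S, ∀ t ∈ S, s * t = t * s) :
    Nat.card (Subgroup.closure (S : Set B)) ≤ q ^ S.card := by
  classical
  induction S using Finset.induction_on with
  | empty => simp
  | @insert a S ha ih =>
    have ih' := ih (fun s hs => hpow s (Finset.mem_insert_of_mem hs))
      (fun s hs t ht => hcomm s (Finset.mem_insert_of_mem hs) t (Finset.mem_insert_of_mem ht))
    rw [Finset.card_insert_of_notMem ha, Finset.coe_insert, Set.insert_eq, Subgroup.closure_union,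
      ← Subgroup.zpowers_eq_closure]
    set T := Subgroup.closure (S : Set B)
    have hcen : T ≤ Subgroup.centralizer ({a} : Set B) :=
      (Subgroup.closure_le _).mpr fun t ht =>
        Subgroup.mem_centralizer_singleton_iff.mpr (hcomm t (Finset.mem_insert_of_mem ht) a (Finset.mem_insert_self a S))
    have hc : ∀ (m : Subgroup.zpowers a) (n : T), Commute ((Subgroup.zpowers a).subtype m) (T.subtype n) := by
      rintro ⟨m, k, rfl⟩ n
      exact (show Commute a (n : B) from (Subgroup.mem_centralizer_singleton_iff.mp (hcen n.2)).symm).zpow_left k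
    have hr := MonoidHom.noncommCoprod_range (f := (Subgroup.zpowers a).subtype) (g := T.subtype) (comm := hc)
    rw [Subgroup.range_subtype, Subgroup.range_subtype] at hr
    rw [← hr, pow_succ']
    refine (Nat.card_le_card_of_surjective _ (MonoidHom.rangeRestrict_surjective _)).trans ?_
    rw [Nat.card_prod, Nat.card_zpowers]
    exact Nat.mul_le_mul (orderOf_le_of_pow_eq_one hq (hpow a (Finset.mem_insert_self a S))) ih'

variable {G : Type u} [Group G] [Finite G]

theorem hasAb_small {b : ℕ} (hb : b = 2 ∨ b = 3) (h : DegLE G b) (K : Subgroup G) [K.Normal]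
    (hmin : ∀ L : Subgroup (G ⧸ K), L.Normal → L ≠ ⊥ → commutator (G ⧸ K) ≤ L)
    (hnc : commutator (G ⧸ K) ≠ ⊥) (hZ : Subgroup.center (G ⧸ K) = ⊥) : HasAb G b := by
  classical
  have := Fintype.ofFinite G
  set π := QuotientGroup.mk' K with hπ
  have hπs : Function.Surjective π := QuotientGroup.mk'_surjective K
  set D := commutator (G ⧸ K) with hD
  have h3 : DegLE (G ⧸ K) 3 := fun χ hχ => ((h.quotient K) χ hχ).trans (by omega)
  have hab := commutator_comm_of_degLE_three h3 hmin
  obtain ⟨q, hq, hexp, hqi, hD1, hDt, hfp⟩ := minimal_frobenius hmin hnc hZ hab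
  set N := D.comap π with hN
  have hmem : ∀ g : G, g ∈ N ↔ (g : G ⧸ K) ∈ D := fun g => Iff.rfl
  have hidx : N.index = D.index := Subgroup.index_comap_of_surjective D hπs
  have hKN : K ≤ N := fun k hk => by
    rw [hmem, (QuotientGroup.eq_one_iff k).mpr hk]; exact one_mem D
  have hcomm : ∀ a ∈ N, ∀ c ∈ N, a * c * a⁻¹ * c⁻¹ ∈ K := fun a ha c hc => by
    rw [← QuotientGroup.eq_one_iff]
    simp only [QuotientGroup.mk_mul, QuotientGroup.mk_inv]
    rw [hab (a : G ⧸ K) ha (c : G ⧸ K) hc]; group
  have hexp' : ∀ a ∈ N, a ^ q ∈ K := fun a ha => by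
    rw [← QuotientGroup.eq_one_iff, QuotientGroup.mk_pow]
    exact hexp _ ha
  have hNK : ¬ N ≤ K := fun hle => hD1 (eq_bot_iff.mpr fun y hy => by
    obtain ⟨g, rfl⟩ := hπs y
    exact Subgroup.mem_bot.mpr ((QuotientGroup.eq_one_iff g).mpr (hle hy)))
  have hfp' : ∀ t, t ∉ N → ∀ n ∈ N, t * n * t⁻¹ * n⁻¹ ∈ K → n ∈ K := fun t ht n hn hc => by
    rw [← QuotientGroup.eq_one_iff]
    refine hfp _ ht _ hn ?_
    rw [← QuotientGroup.eq_one_iff] at hc
    simp only [QuotientGroup.mk_mul, QuotientGroup.mk_inv, mul_inv_eq_one] at hc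
    calc (t : G ⧸ K) * n = (t : G ⧸ K) * n * (t : G ⧸ K)⁻¹ * t := by group
      _ = (n : G ⧸ K) * t := by rw [hc]
  have hf1 : 1 < N.index := hidx ▸ Subgroup.one_lt_index_of_ne_top hDt
  have hfb : N.index ≤ b := by
    obtain ⟨χ, hχ, hχd⟩ := exists_degree_index_mul N K hq hcomm hexp' hNK hfp' isIrrCharacter_one
      (by simp [charDegree, hq.ne_one])
    have := h χ hχ
    rw [hχd] at this
    simpa [charDegree] using this
  by_cases hNab : ∀ x ∈ N, ∀ y ∈ N, x * y = y * x
  · exact hasAb_of_abelian N hNab (hfb.trans ((Nat.self_le_factorial b).trans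
      (Nat.le_self_pow two_ne_zero _)))
  -- `K` is abelian
  have hKab : ∀ x ∈ K, ∀ y ∈ K, x * y = y * x := fun x hx y hy =>
    congrArg Subtype.val ((h.half_kernel K hnc).commutative (by omega) ⟨x, hx⟩ ⟨y, hy⟩)
  obtain ⟨ψ, hψ, hψd⟩ := exists_nonlinear N (fun e => hNab fun x hx y hy => by
    rw [commutator_def, Subgroup.commutator_eq_bot_iff_le_centralizer] at e
    exact congrArg Subtype.val
      (Subgroup.mem_centralizer_iff.mp (e (Subgroup.mem_top (⟨y, hy⟩ : N))) ⟨x, hx⟩ (Subgroup.mem_top _)))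
  have hψb : charDegree ψ ≤ b := h.subgroup N ψ hψ
  have hDidx : Nat.card D * D.index = K.index := by
    rw [Subgroup.card_mul_index, Subgroup.index_eq_card]
  have hrel : (K.subgroupOf N).index = Nat.card D := by
    have h1 := Subgroup.relIndex_mul_index hKN
    rw [hidx, ← hDidx] at h1
    exact Nat.eq_of_mul_eq_mul_right (Nat.pos_of_ne_zero Subgroup.index_ne_zero_of_finite) h1
  have hqd : q ∣ charDegree ψ := by
    obtain ⟨n, σ, hσ, hσc⟩ := hψ
    have hd : charDegree ψ = Module.finrank ℂ (Fin n → ℂ) := by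
      rw [← hσc, charDegree, σ.char_one, Complex.natCast_re, Nat.floor_natCast]
    have hdvd := degree_dvd_index_of_abelian_normal σ (K.subgroupOf N) fun a ha c hc =>
      Subtype.ext (hKab _ ha _ hc)
    rw [hrel, ← hd] at hdvd
    haveI := Fact.mk hq
    obtain ⟨k, hk⟩ := IsPGroup.iff_card.mp (show IsPGroup q D from fun d => ⟨1, Subtype.ext (by
      rw [pow_one]; exact hexp d d.2)⟩)
    rw [hk] at hdvd
    obtain ⟨i, -, hi⟩ := (Nat.dvd_prime_pow hq).mp hdvd
    rcases Nat.eq_zero_or_pos i with rfl | hi0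
    · rw [pow_zero] at hi; omega
    · rw [hi]; exact dvd_pow_self q hi0.ne'
  have hqb : q ≤ b := (Nat.le_of_dvd (by omega) hqd).trans hψb
  have hq2 := hq.two_le
  have hqf : ¬ q ∣ N.index := hidx ▸ hqi
  -- the size of the quotient
  obtain ⟨d, hdD, hd1⟩ := (Subgroup.bot_or_exists_ne_one D).resolve_left hD1
  let S : Finset (G ⧸ K) := Finset.univ.image fun y : (G ⧸ K) ⧸ D => y.out * d * y.out⁻¹
  have hSD : ∀ s ∈ S, s ∈ D := fun s hs => by
    obtain ⟨y, -, rfl⟩ := Finset.mem_image.mp hs
    exact Subgroup.Normal.conj_mem inferInstance d hdD _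
  have hDS : D ≤ Subgroup.closure (S : Set (G ⧸ K)) := by
    refine (hmin (Subgroup.normalClosure {d}) inferInstance fun e => hd1 ?_).trans ?_
    · have := Subgroup.subset_normalClosure (Set.mem_singleton d)
      rwa [e, SetLike.mem_coe, Subgroup.mem_bot] at this
    · refine Subgroup.closure_mono fun z hz => ?_
      obtain ⟨a, ha, hconj⟩ := Group.mem_conjugatesOfSet_iff.mp hz
      rw [Set.mem_singleton_iff.mp ha] at hconj
      obtain ⟨g, rfl⟩ := isConj_iff.mp hconj
      obtain ⟨⟨c, hc⟩, hco⟩ := QuotientGroup.mk_out_eq_mul D g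
      refine Finset.mem_coe.mpr (Finset.mem_image.mpr ⟨(g : (G ⧸ K) ⧸ D), Finset.mem_univ _, ?_⟩)
      rw [hco, mul_inv_rev, mul_assoc g c d, hab c hc d hdD]
      group
  have hScard : S.card ≤ N.index := by
    rw [hidx, Subgroup.index_eq_card, Nat.card_eq_fintype_card, ← Finset.card_univ]
    exact Finset.card_image_le
  have hDcard : Nat.card D ≤ q ^ N.index :=
    ((Subgroup.card_le_of_le hDS).trans (card_closure_le hq.pos S (fun s hs => hexp s (hSD s hs))
      fun s hs t ht => hab s (hSD s hs) t (hSD t ht))).trans (Nat.pow_le_pow_right hq.pos hScard)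
  refine hasAb_of_abelian K hKab ?_
  rw [← hDidx, ← hidx]
  refine (Nat.mul_le_mul_right _ hDcard).trans ?_
  have hb3 : b = 3 := by
    rcases hb with rfl | rfl
    · exfalso
      exact hqf (by rw [show q = 2 by omega, show N.index = 2 by omega])
    · rfl
  subst hb3
  have hne : q ≠ N.index := fun e => hqf (e ▸ dvd_rfl)
  have hcases : (q = 2 ∧ N.index = 3) ∨ (q = 3 ∧ N.index = 2) := by omega
  rcases hcases with ⟨hq', hf'⟩ | ⟨hq', hf'⟩ <;> rw [hq', hf'] <;> norm_num [Nat.factorial]

end CfsgLib.DegreeAbelian
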