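import Cfsg.Agent.Lib.DegreeAbelian.BigCase
import Cfsg.Agent.Lib.DegreeAbelian.SmallCase

/-!
A group with irreducible degrees at most `b` has an abelian subgroup of index at most `(b!)²`.
-/

namespace CfsgLib.DegreeAbelian

open Cfsg CfsgLib.CharTheory

universe u

theorem exists_abelian (b : ℕ) : ∀ (G : Type u) [Group G] [Finite G], DegLE G b → HasAb G b := by
  induction b using Nat.strong_induction_on with
  | _ b ih =>
  intro G _ _ h
  classical
  have := Fintype.ofFinite G
  by_cases hcomm : ∀ x y : G, x * y = y * x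
  · exact hasAb_of_abelian ⊤ (fun x _ y _ => hcomm x y) (by
      rw [Subgroup.index_top]; exact Nat.one_le_pow _ _ (Nat.factorial_pos b))
  have hb : 2 ≤ b := by
    by_contra hb
    exact hcomm (h.commutative (by omega))
  have hGc : commutator G ≠ ⊥ := fun e => hcomm fun x y => by
    rw [commutator_def, Subgroup.commutator_eq_bot_iff_le_centralizer] at e
    exact Subgroup.mem_centralizer_iff.mp (e (Subgroup.mem_top y)) x (Subgroup.mem_top x)
  obtain ⟨K, ⟨hKn, hKc⟩, hKmax⟩ := (Set.toFinite {K : Subgroup G | K.Normal ∧ ¬ commutator G ≤ K}).exists_maximal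
    ⟨⊥, inferInstance, fun hle => hGc (eq_bot_iff.mpr hle)⟩
  haveI := hKn
  have hπs : Function.Surjective (QuotientGroup.mk' K) := QuotientGroup.mk'_surjective K
  have hcQ : (commutator G).map (QuotientGroup.mk' K) = commutator (G ⧸ K) := by
    rw [commutator_def, Subgroup.map_commutator, Subgroup.map_top_of_surjective _ hπs, ← commutator_def]
  have hnc : commutator (G ⧸ K) ≠ ⊥ := by
    rw [← hcQ, ne_eq, Subgroup.map_eq_bot_iff, QuotientGroup.ker_mk']
    exact hKc
  have hmin : ∀ L : Subgroup (G ⧸ K), L.Normal → L ≠ ⊥ → commutator (G ⧸ K) ≤ L := by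
    intro L hL hL1
    haveI := hL
    by_contra hle
    have h1 : ¬ commutator G ≤ L.comap (QuotientGroup.mk' K) := fun hh => hle (by
      rw [← hcQ]; exact Subgroup.map_le_iff_le_comap.mpr hh)
    have hK : K ≤ L.comap (QuotientGroup.mk' K) := fun k hk => by
      rw [Subgroup.mem_comap, QuotientGroup.mk'_apply, (QuotientGroup.eq_one_iff k).mpr hk]
      exact one_mem L
    refine hL1 (eq_bot_iff.mpr ?_)
    have h2 := hKmax ⟨inferInstance, h1⟩ hK
    intro x hx
    obtain ⟨g, rfl⟩ := hπs x
    exact Subgroup.mem_bot.mpr ((QuotientGroup.eq_one_iff g).mpr (h2 hx))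
  have step : ∀ (H : Subgroup G) {c R : ℕ}, c < b → H.index ≤ R → DegLE H c →
      R * (Nat.factorial c) ^ 2 ≤ (Nat.factorial b) ^ 2 → HasAb G b := fun H c R hc hH hd hR =>
    hasAb_of_subgroup H hH (ih c hc H hd) hR
  by_cases hZ : Subgroup.center (G ⧸ K) = ⊥
  · by_cases hK : K.index ≤ b ^ 2
    · exact step K (by omega) hK (h.half_kernel K hnc) (ineq_half hb)
    · by_cases h4 : 4 ≤ b
      · obtain ⟨H, hHi, hHd⟩ := exists_of_trivial_center h4 h K hmin hnc hZ (by omega)
        exact step H (by omega) hHi hHd (ineq_sub_two h4)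
      · exact hasAb_small (by omega) h K hmin hnc hZ
  · obtain ⟨M, hMi, hMd⟩ := exists_of_center h K hnc hmin hZ
    exact step M (by omega) hMi hMd (ineq_half hb)

end CfsgLib.DegreeAbelian
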