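import Cfsg.Agent.Lib.DegreeAbelian.Basic

/-!
Alternating forms on a representation with an invariant hyperplane for the centralizer of an element.
-/

set_option maxSynthPendingDepth 4

namespace CfsgLib.DegreeAbelian

open Cfsg CfsgLib.CharTheory

universe u

variable {G : Type u} [Group G] {V : Type} [AddCommGroup V] [Module ℂ V]

/-- The alternating forms. -/
def altForms (V : Type) [AddCommGroup V] [Module ℂ V] : Submodule ℂ (V →ₗ[ℂ] V →ₗ[ℂ] ℂ) where
  carrier := {B | ∀ v, B v v = 0}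
  add_mem' := fun {a b} (ha : ∀ v, a v v = 0) (hb : ∀ v, b v v = 0) v => by
    show (a + b) v v = 0
    rw [LinearMap.add_apply, LinearMap.add_apply, ha, hb, add_zero]
  zero_mem' := fun v => rfl
  smul_mem' := fun c a (ha : ∀ v, a v v = 0) v => by
    show (c • a) v v = 0
    rw [LinearMap.smul_apply, LinearMap.smul_apply, ha, smul_zero]

theorem altForms_swap (B : altForms V) (v w : V) :
    (B : V →ₗ[ℂ] V →ₗ[ℂ] ℂ) v w = -(B : V →ₗ[ℂ] V →ₗ[ℂ] ℂ) w v := by
  have := B.2 (v + w)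
  simp only [map_add, LinearMap.add_apply, B.2 v, B.2 w, zero_add, add_zero] at this
  linear_combination this

/-- The action on alternating forms. -/
noncomputable def altRep (ρ : Representation ℂ G V) : Representation ℂ G (altForms V) where
  toFun g :=
    { toFun := fun B => ⟨(B : V →ₗ[ℂ] V →ₗ[ℂ] ℂ).compl₁₂ (ρ g⁻¹) (ρ g⁻¹), fun v => B.2 _⟩
      map_add' := fun a b => Subtype.ext (LinearMap.ext₂ fun v w => rfl)
      map_smul' := fun c a => Subtype.ext (LinearMap.ext₂ fun v w => rfl) }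
  map_one' := LinearMap.ext fun B => Subtype.ext (LinearMap.ext₂ fun v w => by simp)
  map_mul' g h := LinearMap.ext fun B => Subtype.ext (LinearMap.ext₂ fun v w => by simp)

theorem altRep_apply (ρ : Representation ℂ G V) (g : G) (B : altForms V) (v w : V) :
    (altRep ρ g B : V →ₗ[ℂ] V →ₗ[ℂ] ℂ) v w =
      (B : V →ₗ[ℂ] V →ₗ[ℂ] ℂ) (ρ g⁻¹ v) (ρ g⁻¹ w) := rfl

variable [Finite G] [FiniteDimensional ℂ V]

theorem finrank_lt_altForms (h4 : 4 ≤ Module.finrank ℂ V) :
    Module.finrank ℂ V < Module.finrank ℂ (altForms V) := by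
  classical
  set n := Module.finrank ℂ V with hn
  set b := Module.finBasisOfFinrankEq ℂ V hn.symm
  let ι := {p : Fin n × Fin n // p.1 < p.2}
  let ev : altForms V →ₗ[ℂ] (ι → ℂ) :=
    { toFun := fun B p => (B : V →ₗ[ℂ] V →ₗ[ℂ] ℂ) (b p.1.1) (b p.1.2)
      map_add' := fun _ _ => rfl
      map_smul' := fun _ _ => rfl }
  let wedge : ι → altForms V := fun p =>
    ⟨LinearMap.smulRight (b.coord p.1.1) (b.coord p.1.2) - LinearMap.smulRight (b.coord p.1.2) (b.coord p.1.1),
      fun v => by simp [mul_comm]⟩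
  have hsurj : Function.Surjective ev := by
    intro c
    refine ⟨∑ p : ι, c p • wedge p, funext fun q => ?_⟩
    rw [map_sum, Finset.sum_apply, Finset.sum_eq_single q]
    · have hne : q.1.1 ≠ q.1.2 := q.2.ne
      simp [ev, wedge, hne, hne.symm]
    · intro p _ hne
      obtain ⟨⟨i, j⟩, hij⟩ := p
      obtain ⟨⟨k, l⟩, hkl⟩ := q
      have h1 : ¬ (k = i ∧ l = j) := fun ⟨e1, e2⟩ => hne (Subtype.ext (Prod.ext e1.symm e2.symm))
      have h2 : ¬ (k = j ∧ l = i) := fun ⟨e1, e2⟩ => by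
        subst e1 e2; exact absurd (lt_trans hij hkl) (lt_irrefl _)
      simp only [ev, wedge, map_smul, Pi.smul_apply, LinearMap.coe_mk, AddHom.coe_mk,
        LinearMap.sub_apply, LinearMap.smulRight_apply, smul_eq_mul, LinearMap.smul_apply,
        Module.Basis.coord_apply, Module.Basis.repr_self, Finsupp.single_apply]
      split_ifs <;> simp_all
    · exact fun h => absurd (Finset.mem_univ _) h
  let f : Fin (n + 1) → ι := fun k =>
    if h : (k : ℕ) < n - 1 then
      ⟨(⟨0, by omega⟩, ⟨(k : ℕ) + 1, by omega⟩), Fin.mk_lt_mk.mpr (Nat.succ_pos _)⟩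
    else if (k : ℕ) = n - 1 then ⟨(⟨1, by omega⟩, ⟨2, by omega⟩), Fin.mk_lt_mk.mpr (by omega)⟩
    else ⟨(⟨1, by omega⟩, ⟨3, by omega⟩), Fin.mk_lt_mk.mpr (by omega)⟩
  have hf : Function.Injective f := by
    intro k l hkl
    have hk := k.2
    have hl := l.2
    simp only [f] at hkl
    split_ifs at hkl <;>
      (have := congrArg (fun p : ι => ((p.1.1 : ℕ), (p.1.2 : ℕ))) hkl
       simp only [Prod.mk.injEq] at this
       exact Fin.ext (by omega))
  have h1 := Fintype.card_le_of_injective f hf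
  have h2 := LinearMap.finrank_le_finrank_of_surjective hsurj
  rw [Module.finrank_fintype_fun_eq_card] at h2
  rw [Fintype.card_fin] at h1
  omega

/-- An irreducible representation of degree `n ≥ 4` in which a subgroup leaves a line and an
irreducible hyperplane invariant, with a central element acting by different scalars on them, gives
an irreducible representation of larger degree. -/
theorem exists_larger (ρ : Representation ℂ G V) [hρ : ρ.IsIrreducible]
    (h4 : 4 ≤ Module.finrank ℂ V) (H : Subgroup G) {x : G} (hxH : x ∈ H) (e : V) (he : e ≠ 0)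
    (W : Submodule ℂ V) (hcompl : IsCompl (ℂ ∙ e) W)
    (heH : ∀ h ∈ H, ∃ c : ℂ, ρ h e = c • e) (hWH : ∀ h ∈ H, ∀ w ∈ W, ρ h w ∈ W)
    (hirr : ∀ M : Submodule ℂ V, M ≤ W → (∀ h ∈ H, ∀ w ∈ M, ρ h w ∈ M) → M = ⊥ ∨ M = W)
    {ω ω' : ℂ} (hω : ∀ w ∈ W, ρ x w = ω • w) (hω' : ρ x e = ω' • e) (hne : ω ≠ ω') :
    ∃ ψ : G → ℂ, IsIrrCharacter G ψ ∧ Module.finrank ℂ V < charDegree ψ := by
  classical
  set σ := altRep ρ with hσ
  have hdec : ∀ v : V, ∃ (a : ℂ) (w : V), w ∈ W ∧ v = a • e + w := by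
    intro v
    have : v ∈ (ℂ ∙ e) ⊔ W := by rw [hcompl.sup_eq_top]; exact Submodule.mem_top
    obtain ⟨y, hy, z, hz, rfl⟩ := Submodule.mem_sup.mp this
    obtain ⟨a, rfl⟩ := Submodule.mem_span_singleton.mp hy
    exact ⟨a, z, hz, rfl⟩
  have hinv : ∀ g : G, ∀ v : V, ρ g (ρ g⁻¹ v) = v := fun g v => by
    rw [← Module.End.mul_apply, ← map_mul, mul_inv_cancel, map_one, Module.End.one_apply]
  have hinv' : ∀ g : G, ∀ v : V, ρ g⁻¹ (ρ g v) = v := fun g v => by
    rw [← Module.End.mul_apply, ← map_mul, inv_mul_cancel, map_one, Module.End.one_apply]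
  have hW0 : W ≠ ⊥ := fun e0 => by
    have h1 := Submodule.finrank_add_eq_of_isCompl hcompl
    rw [finrank_span_singleton he, e0, finrank_bot] at h1
    omega
  obtain ⟨w₀, hw₀, hw₀0⟩ := W.exists_mem_ne_zero_of_ne_bot hW0
  have hωn : ω ≠ 0 := fun h0 => hw₀0 (by
    have := congrArg (ρ x⁻¹) (hω w₀ hw₀)
    rwa [hinv', h0, zero_smul, map_zero] at this)
  have hω'n : ω' ≠ 0 := fun h0 => he (by
    have := congrArg (ρ x⁻¹) hω'
    rwa [hinv', h0, zero_smul, map_zero] at this)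
  have hxe : ρ x⁻¹ e = ω'⁻¹ • e := by
    apply smul_right_injective V hω'n
    show ω' • ρ x⁻¹ e = ω' • ω'⁻¹ • e
    rw [← map_smul, ← hω', hinv', smul_smul, mul_inv_cancel₀ hω'n, one_smul]
  have hxw : ∀ w ∈ W, ρ x⁻¹ w = ω⁻¹ • w := by
    intro w hw
    apply smul_right_injective V hωn
    show ω • ρ x⁻¹ w = ω • ω⁻¹ • w
    rw [← map_smul, ← hω w hw, hinv', smul_smul, mul_inv_cancel₀ hωn, one_smul]
  -- the forms vanishing on the hyperplane
  let M : Submodule ℂ (altForms V) :=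
    { carrier := {B | ∀ w ∈ W, ∀ w' ∈ W, (B : V →ₗ[ℂ] V →ₗ[ℂ] ℂ) w w' = 0}
      add_mem' := fun {a b} (ha : ∀ w ∈ W, ∀ w' ∈ W, (a : V →ₗ[ℂ] V →ₗ[ℂ] ℂ) w w' = 0)
          (hb : ∀ w ∈ W, ∀ w' ∈ W, (b : V →ₗ[ℂ] V →ₗ[ℂ] ℂ) w w' = 0) w hw w' hw' => by
        rw [Submodule.coe_add, LinearMap.add_apply, LinearMap.add_apply, ha w hw w' hw',
          hb w hw w' hw', add_zero]
      zero_mem' := fun w _ w' _ => rfl
      smul_mem' := fun c a (ha : ∀ w ∈ W, ∀ w' ∈ W, (a : V →ₗ[ℂ] V →ₗ[ℂ] ℂ) w w' = 0) w hw w' hw' => by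
        rw [Submodule.coe_smul, LinearMap.smul_apply, LinearMap.smul_apply, ha w hw w' hw', smul_zero] }
  have key : ∀ U : Subrepresentation σ, U.toSubmodule ≠ ⊥ →
      M ≤ U.toSubmodule ∧ ∃ B ∈ M, B ≠ 0 := by
    intro U hU
    have h1 : ∃ B ∈ U.toSubmodule, ∃ w ∈ W, (B : V →ₗ[ℂ] V →ₗ[ℂ] ℂ) e w ≠ 0 := by
      by_contra hcon
      push Not at hcon
      refine hU (eq_bot_iff.mpr fun B hB => (Submodule.mem_bot ℂ).mpr (Subtype.ext ?_))
      have h0 : ∀ C ∈ U.toSubmodule, ∀ v, (C : V →ₗ[ℂ] V →ₗ[ℂ] ℂ) e v = 0 := by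
        intro C hC v
        obtain ⟨a, w, hw, rfl⟩ := hdec v
        rw [map_add, map_smul, C.2 e, hcon C hC w hw, smul_zero, add_zero]
      have horb : ∀ g : G, (B : V →ₗ[ℂ] V →ₗ[ℂ] ℂ) (ρ g e) = 0 := by
        intro g
        refine LinearMap.ext fun v => ?_
        have := h0 _ (U.apply_mem_toSubmodule g⁻¹ hB) (ρ g⁻¹ v)
        rw [hσ, altRep_apply, inv_inv, hinv] at this
        exact this
      let T : Subrepresentation ρ := ⟨Submodule.span ℂ (Set.range fun g : G => ρ g e), fun g v hv => by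
        refine (Submodule.span_le (p := (Submodule.span ℂ (Set.range fun g : G => ρ g e)).comap (ρ g))).mpr
          ?_ hv
        rintro _ ⟨k, rfl⟩
        exact Submodule.subset_span ⟨g * k, by show ρ (g * k) e = ρ g (ρ k e); rw [map_mul, Module.End.mul_apply]⟩⟩
      rcases IsSimpleOrder.eq_bot_or_eq_top T with hT | hT
      · have hmem : e ∈ T.toSubmodule := Submodule.subset_span ⟨1, by simp⟩
        rw [hT] at hmem
        exact absurd ((Submodule.mem_bot ℂ).mp hmem) he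
      · have htop : T.toSubmodule = ⊤ := congrArg Subrepresentation.toSubmodule hT
        exact LinearMap.ext_on_range (v := fun g : G => ρ g e) htop fun g => horb g
    obtain ⟨B, hB, w₁, hw₁, hBw⟩ := h1
    set B' := σ x B - (ω⁻¹ * ω⁻¹) • B with hB'
    have hB'U : B' ∈ U.toSubmodule :=
      sub_mem (U.apply_mem_toSubmodule x hB) (Submodule.smul_mem U.toSubmodule (ω⁻¹ * ω⁻¹) hB)
    have hB'M : B' ∈ M := by
      intro w hw w' hw'
      rw [hB', Submodule.coe_sub, Submodule.coe_smul, LinearMap.sub_apply, LinearMap.sub_apply,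
        LinearMap.smul_apply, LinearMap.smul_apply, hσ, altRep_apply, hxw w hw, hxw w' hw']
      simp only [map_smul, LinearMap.smul_apply, smul_eq_mul]
      ring
    have hB'e : (B' : V →ₗ[ℂ] V →ₗ[ℂ] ℂ) e w₁ ≠ 0 := by
      have hval : (B' : V →ₗ[ℂ] V →ₗ[ℂ] ℂ) e w₁ =
          (ω'⁻¹ - ω⁻¹) * ω⁻¹ * (B : V →ₗ[ℂ] V →ₗ[ℂ] ℂ) e w₁ := by
        rw [hB', Submodule.coe_sub, Submodule.coe_smul, LinearMap.sub_apply, LinearMap.sub_apply,
          LinearMap.smul_apply, LinearMap.smul_apply, hσ, altRep_apply, hxe, hxw w₁ hw₁]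
        simp only [map_smul, LinearMap.smul_apply, smul_eq_mul]
        ring
      rw [hval]
      exact mul_ne_zero (mul_ne_zero (sub_ne_zero.mpr fun e' => hne (inv_injective e').symm)
        (inv_ne_zero hωn)) hBw
    refine ⟨?_, B', hB'M, fun h0 => hB'e (by rw [h0]; rfl)⟩
    -- the functionals on `W` coming from `U ⊓ M`
    let res : altForms V →ₗ[ℂ] Module.Dual ℂ W :=
      { toFun := fun C => ((C : V →ₗ[ℂ] V →ₗ[ℂ] ℂ) e).comp W.subtype
        map_add' := fun _ _ => rfl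
        map_smul' := fun _ _ => rfl }
    set N := (U.toSubmodule ⊓ M).map res with hN
    have hann : N.dualCoannihilator = ⊥ := by
      let A := N.dualCoannihilator.map W.subtype
      have hA : ∀ h ∈ H, ∀ w ∈ A, ρ h w ∈ A := by
        rintro h hh _ ⟨⟨w, hw⟩, hwa, rfl⟩
        refine ⟨⟨ρ h w, hWH h hh w hw⟩, ?_, rfl⟩
        rw [SetLike.mem_coe, Submodule.mem_dualCoannihilator] at hwa ⊢
        rintro _ ⟨C, ⟨hCU, hCM⟩, rfl⟩
        obtain ⟨a, ha⟩ := heH h hh
        have hC' : σ h⁻¹ C ∈ U.toSubmodule ⊓ M := by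
          refine ⟨U.apply_mem_toSubmodule h⁻¹ hCU, fun v hv v' hv' => ?_⟩
          rw [hσ, altRep_apply, inv_inv]
          exact hCM _ (hWH h hh v hv) _ (hWH h hh v' hv')
        have := hwa (res (σ h⁻¹ C)) ⟨_, hC', rfl⟩
        show (C : V →ₗ[ℂ] V →ₗ[ℂ] ℂ) e (ρ h w) = 0
        have hv : (σ h⁻¹ C : V →ₗ[ℂ] V →ₗ[ℂ] ℂ) e w = 0 := this
        rw [hσ, altRep_apply, inv_inv, ha, map_smul, LinearMap.smul_apply, smul_eq_mul] at hv
        have ha0 : a ≠ 0 := fun h0 => he (by
          have := congrArg (ρ h⁻¹) ha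
          rwa [hinv', h0, zero_smul, map_zero] at this)
        exact (mul_eq_zero.mp hv).resolve_left ha0
      rcases hirr A (Submodule.map_subtype_le _ _) hA with hA0 | hA0
      · exact Submodule.map_injective_of_injective W.injective_subtype (hA0.trans (Submodule.map_bot _).symm)
      · exfalso
        apply hB'e
        obtain ⟨w, hw, hww⟩ : w₁ ∈ A := hA0.symm ▸ hw₁
        rw [SetLike.mem_coe, Submodule.mem_dualCoannihilator] at hw
        rw [← hww]
        exact hw (res B') ⟨B', ⟨hB'U, hB'M⟩, rfl⟩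
    have hNtop : N = ⊤ := by
      rw [← Subspace.dualCoannihilator_dualAnnihilator_eq (W := N), hann, Submodule.dualAnnihilator_bot]
    intro C hC
    obtain ⟨C', ⟨hC'U, hC'M⟩, hres⟩ : res C ∈ N := hNtop.symm ▸ Submodule.mem_top
    have hew : ∀ w ∈ W, (C' : V →ₗ[ℂ] V →ₗ[ℂ] ℂ) e w = (C : V →ₗ[ℂ] V →ₗ[ℂ] ℂ) e w :=
      fun w hw => LinearMap.congr_fun hres ⟨w, hw⟩
    have : C' = C := by
      refine Subtype.ext (LinearMap.ext₂ fun v v' => ?_)
      obtain ⟨a, w, hw, rfl⟩ := hdec v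
      obtain ⟨a', w', hw', rfl⟩ := hdec v'
      simp only [map_add, map_smul, LinearMap.add_apply, LinearMap.smul_apply, C.2 e, C'.2 e,
        altForms_swap C w e, altForms_swap C' w e, hew w hw, hew w' hw', hC w hw w' hw',
        hC'M w hw w' hw']
    exact this ▸ hC'U
  have hdim := finrank_lt_altForms (V := V) h4
  have hσirr : Representation.IsIrreducible (k := ℂ) (G := G) (V := altForms V) σ := by
    refine @IsSimpleOrder.mk _ _ _ ⟨⊥, ⊤, fun e0 => ?_⟩ fun U => ?_
    · have := congrArg Subrepresentation.toSubmodule e0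
      have hfin : Module.finrank ℂ (altForms V) = 0 := by
        rw [← finrank_top, show (⊤ : Submodule ℂ (altForms V)) = ⊥ from this.symm, finrank_bot]
      omega
    · refine or_iff_not_imp_left.mpr fun hU => ?_
      have hU' : U.toSubmodule ≠ ⊥ := fun e0 => hU (Subrepresentation.toSubmodule_injective e0)
      obtain ⟨q, hq⟩ := exists_isCompl_subrep σ U
      by_cases hq0 : q.toSubmodule = ⊥
      · exact Subrepresentation.toSubmodule_injective (show U.toSubmodule = (⊤ : Submodule ℂ (altForms V)) by simpa [hq0] using hq.sup_eq_top)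
      · obtain ⟨hMU, B, hB, hB0⟩ := key U hU'
        exact absurd ((Submodule.mem_bot ℂ).mp (hq.inf_eq_bot.le ⟨hMU hB, (key q hq0).1 hB⟩)) hB0
  refine ⟨σ.character, isIrrCharacter_character σ, ?_⟩
  rw [charDegree, σ.char_one, Complex.natCast_re, Nat.floor_natCast]
  exact hdim

end CfsgLib.DegreeAbelian
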